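import Cfsg.Agent.Lib.Twisted.MultF4
import Cfsg.Agent.Lib.St.InstSz
import Cfsg.Agent.Lib.Sz.Tori

/-!
The Suzuki subgroup of a twisted group of type F₄, and the Schur multiplier of the latter.
-/

set_option autoImplicit false
set_option maxRecDepth 100000

namespace Cfsg.Lib.Twisted
open Cfsg.Lie Cfsg.Lib.Chev Cfsg.Lib.Chev.RootSys Cfsg.Lib.Chev.PreSys Cfsg.Lib.Chev.ChevSys
  Subgroup Equiv Twist Cfsg.Lib.St
open scoped commutatorElement

theorem strongComm_emb_two {ι Φ ι' Φ' : Type} [Fintype ι] [DecidableEq ι] [Fintype ι']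
    [DecidableEq ι'] {R : RootSys ι Φ} {R' : RootSys ι' Φ'} {T : ChevTab R} {T' : ChevTab R'}
    {F G : Type*} [Field F] [CharP F 2] [Monoid G] {x : Φ' → F → G} (hT : T'.StrongComm x)
    {ρ : ι → ι'} {π : Φ → Φ'} (h : R.Emb R' ρ π) (hR : R.NoG2) (hR' : R'.NoG2) :
    T.StrongComm fun r t => x (π r) t := fun r s h1 h2 t u => by
  have key : ∀ {r s j k}, s ≠ r → s ≠ R.neg r → 0 < j → R.cr r s j = some k →
      (T'.M (π r) (π s) j : F) = T.M r s j := fun {r s j k} h1 h2 hj hk => by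
    have h3 := cr_eq_some.1 ((h.cr r s j).trans (congrArg _ hk))
    rw [cr_eq_some] at hk
    have h4 : ∀ m (p : ℕ), R'.α (π m) = R'.α (π s) - p • R'.α (π r) ↔ R.α m = R.α s - p • R.α r :=
      fun m p => by simpa [sub_eq_add_neg] using h.comb (k := m) (r := s) (s := r) (a := 1) (b := -p)
    obtain ⟨p, m, h5, h6⟩ : ∃ p : ℕ, ∃ m, R.α m = R.α s - p • R.α r ∧
        ∀ m', R.α m' ≠ R.α s - (p + 1) • R.α r := by
      by_cases e : ∃ m, R.α m = R.α s - 1 • R.α r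
      · exact ⟨1, e.choose, e.choose_spec, fun m e' => by have := hR.chain_le hk e'; omega⟩
      · exact ⟨0, s, by simp, not_exists.1 e⟩
    have h7 := (T'.M_abs _ _ _ _ j p (h.injective.ne h1) (h.neg r ▸ h.injective.ne h2) hj h3
      ((h4 m p).2 h5) fun m' e => ?_).trans (T.M_abs r s k m j p h1 h2 hj hk h5 h6).symm
    · rcases Int.natAbs_eq_natAbs_iff.1 h7 with e | e <;> simp [e, CharTwo.neg_eq]
    · obtain ⟨m', rfl⟩ := h.surj m' fun i hi => by simp [e, h.α_out _ i hi]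
      exact h6 m' ((h4 _ _).1 e)
  have h3 : r ≠ R.neg s := fun e => h2 (by rw [e, R.neg_neg])
  rw [hT _ _ (h.injective.ne h1) (h.neg r ▸ h.injective.ne h2), ChevTab.commProd_noG2 _ hR,
    ChevTab.commProd_noG2 _ hR', h.cr, h.cr, h.cr]
  congr 2
  · rcases e : R.cr r s 1 with _ | k
    exacts [rfl, by simp [key h1 h2 one_pos e]]
  congr 1
  · rcases e : R.cr r s 2 with _ | k
    exacts [rfl, by simp [key h1 h2 two_pos e]]
  · rcases e : R.cr s r 2 with _ | k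
    exacts [rfl, by simp [key h1.symm h3 two_pos e]]

theorem inf_ker_of_cyclic {E G : Type*} [Group E] [Finite E] [Group G] {φ : E →* G}
    (hc : φ.ker ≤ center E) {p : ℕ} (hk : (Nat.card φ.ker).Coprime p) {k : Set E}
    (hL : ∀ x ∈ k, ∃ n, x ^ p ^ n = 1) (h : ∀ r : ℕ, r.Prime → r.Coprime p →
      ∀ A ≤ (closure k).map φ, IsPGroup r A → IsCyclic A) : closure k ⊓ φ.ker = ⊥ := by
  by_contra hn
  obtain ⟨r, hr, h1⟩ := Nat.exists_prime_and_dvd (mt card_eq_one.1 hn)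
  have := Fact.mk hr
  obtain ⟨⟨z, hz⟩, h2⟩ := exists_prime_orderOf_dvd_card' r h1
  have h3 : r.Coprime p := hk.coprime_dvd_left (h1.trans (card_dvd_of_le inf_le_right))
  have h5 : orderOf (⟨z, hz.1⟩ : closure k) = r := by rwa [orderOf_mk] at h2 ⊢
  obtain ⟨P, hP⟩ := (IsPGroup.of_card ((Nat.card_zpowers _).trans
    (h5.trans (pow_one r).symm))).exists_le_sylow
  obtain ⟨n, h4⟩ := (closure_le ((CommGroup.primaryComponent _ p).comap Abelianization.of)).2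
    (fun (x : closure k) hx => (hL _ hx).imp fun n e => by
      rw [← map_pow, show x ^ p ^ n = 1 from Subtype.ext e, map_one])
    (closure_closure_coe_preimage.ge (mem_top ⟨z, hz.1⟩))
  have h6 := Transfer.mem_commutator_of_mem_center (hP (mem_zpowers _)) ((Abelianization.ker_of _).le
    ((pow_eq_one_iff_of_coprime (h3.pow_right n)).1 ⟨by rw [← map_pow, ← h5, pow_orderOf_eq_one,
      map_one], h4⟩)) (mem_center_iff.2 fun g => Subtype.ext (mem_center_iff.1 (hc hz.2) g))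
    (h5.symm ▸ hr.coprime_iff_not_dvd.2 P.not_dvd_index)
  have h7 := Sz.commutator_comap_of_isCyclic (σ := φ.comp (closure k).subtype) (fun x hx =>
    mem_center_iff.2 fun g => Subtype.ext (mem_center_iff.1 (hc hx) g)) (h r hr h3 (P.1.map
      (φ.comp (closure k).subtype)) (by rintro _ ⟨x, -, rfl⟩; exact ⟨x, x.2, rfl⟩) (P.2.map _))
  rw [mem_bot.1 (h7.le (commutator_mono (le_comap_map _ _) (le_comap_map _ _) h6)),
    orderOf_one] at h5
  exact hr.ne_one h5.symm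

theorem map_Lk_le {ι Φ : Type} [Fintype ι] [DecidableEq ι] {R : RootSys ι Φ} {F G E : Type*}
    [Field F] [Group G] {C : ChevSys R F G} [Group E] {φ : E →* G} {κ : Type} {T : Sym R κ}
    {S : Twist C T} {K : Subgroup G} [Fintype Φ] {p : ℕ} (hK : S.IsTw K) (hφ : φ.range = K) {k : κ}
    {Γ : Subgroup G} (h1 : S.X k ≤ Γ) {v : G} (hv : v ∈ S.Y k) (h2 : v ≠ 1) (h3 : v ∈ Γ) :
    (Lk C φ T p k).map φ ≤ Γ := by
  obtain ⟨a, ha, n, hn, b, hb, rfl⟩ := hK.decomp_neg (hK.Y_le k hv) h2 hv.1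
  have h4 : ∀ {A : Subgroup G}, S.X k ≤ A → a * n * b ∈ A → n ∈ A := fun h e => by
    simpa [mul_assoc] using mul_mem (mul_mem (inv_mem (h ha)) e) (inv_mem (h hb))
  have h5 : n ∈ S.Fix := h4 inf_le_right hv.2
  have h6 := fun x => hK.le_fix (hφ.le ⟨x, rfl⟩)
  refine map_le_iff_le_comap.2 (sup_le (fun x hx => h1 ⟨pl_le hx, h6 x⟩) fun x hx => ?_)
  simpa [mul_assoc] using mul_mem (mul_mem (h4 h1 h3) (h1 ⟨NW.inv_conj_mem hn (fun r hr =>
    wJ_mem_negJ.1 hr) (pl_le hx), S.Fix.mul_mem (mul_mem (inv_mem h5) (h6 x)) h5⟩)) (inv_mem (h4 h1 h3))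

/-- The roots of the subsystem of type B₂. -/
def πSz (r : Rt (2 * 2) true) : Fin 48 :=
  ![![30, 28, 27, 0], ![0, 25, 0, 20], ![0, 0, 22, 19], ![0, 0, 0, 17]] r.1.1 r.1.2

theorem emb_Sz : (rootC 2).Emb RF4 ![1, 2] πSz :=
  ⟨by decide, by decide +kernel, by decide +kernel, by decide +kernel⟩

theorem sub_e' (r : Rt (2 * 2) true) : ((repC (idx 2)).e r).submatrix i4 i4 =
    if πSz r = 27 then !![0, -1, 0, 0; 0, 0, 0, 0; 0, 0, 0, 1; 0, 0, 0, 0]
    else if πSz r = 28 then !![0, 0, 1, 0; 0, 0, 0, 1; 0, 0, 0, 0; 0, 0, 0, 0]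
    else if πSz r = 19 then !![0, 0, 0, 0; 0, 0, 0, 0; 1, 0, 0, 0; 0, 1, 0, 0]
    else if πSz r = 20 then !![0, 0, 0, 0; -1, 0, 0, 0; 0, 0, 0, 0; 0, 0, 1, 0]
    else Matrix.single r.1.1 r.1.1.rev 1 := by
  revert r
  decide +kernel

namespace IsF4

universe u

variable {K : Type u} [Field K] {m : ℕ} {S : Twist (CF4 K) symF4} {φ ψ : K →+* K}
  (h : IsF4 m S φ ψ)
include h

theorem exists_Sz [CharP K 2] : ∃ (Γ : Type u) (_ : Group Γ) (M : Sz.Model K Γ)
    (ι : Γ →* chevF4.group K), (∀ t u, ι (M.u (φ t) (φ t * t + u)) = (CF4 K).x 27 (φ t) *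
      ((CF4 K).x 25 t * ((CF4 K).x 28 (φ t * t + u) * (CF4 K).x 30 (ψ u)))) ∧
    ι (M.w * M.u 0 1 * M.w) = (CF4 K).x 19 1 * (CF4 K).x 17 1 := by
  have := h.finite
  obtain ⟨ι, hι⟩ := (realSp K 2).exists_hom (full_repC _) (noA1_of_conn (conn_C 2) le_rfl)
    (repC (idx 2)).isTab_tab (strongComm_emb_two (x := (CF4 K).x) (checkedF4.gsys_strongComm K)
      emb_Sz (repC (idx 2)).noG2 (by unfold NoG2; decide +kernel)) fun r => (CF4 K).x_add _
  let M := modelSz ⟨ψ, fun x => by simpa [h.φψ] using h.ψ_eq (ψ x)⟩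
    (.ofBijective ψ ⟨ψ.injective, fun t => ⟨_, h.ψφ t⟩⟩) fun _ => rfl
  have h1 : ∀ g, M.mat g = g.1.1.submatrix i4 i4 := fun _ => rfl
  refine ⟨_, _, M, ι.comp (Subgroup.subtype _), fun t u => ?_, ?_⟩
  · rw [show (CF4 K).x 27 = (CF4 K).x (πSz ⟨(0, 2), by decide⟩) from rfl,
      show (CF4 K).x 25 = (CF4 K).x (πSz ⟨(1, 1), by decide⟩) from rfl,
      show (CF4 K).x 28 = (CF4 K).x (πSz ⟨(0, 1), by decide⟩) from rfl,
      show (CF4 K).x 30 = (CF4 K).x (πSz ⟨(0, 0), by decide⟩) from rfl]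
    simp only [← hι, ← map_mul]
    refine congrArg ι (Subtype.ext (sub_inj ((h1 _).symm.trans ((M.mat_u _ _).trans ?_))))
    simp only [Submonoid.coe_mul, ← Matrix.submatrix_mul_equiv _ _ i4 i4 i4]
    erw [sub_xSp, sub_xSp, sub_xSp, sub_xSp]
    ext a b
    fin_cases a <;> fin_cases b <;> simp [sub_e', πSz, Matrix.mul_apply, Fin.sum_univ_four,
      Sz.Tits.uM, Sz.Tits.f, Matrix.one_apply, M, modelSz, h.ψφ, CharTwo.neg_eq, Matrix.single_apply]
    · ring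
    · linear_combination t * h.ψ_eq t + t * φ t ^ 2 * h.two
  · rw [show (CF4 K).x 19 = (CF4 K).x (πSz ⟨(2, 3), by decide⟩) from rfl,
      show (CF4 K).x 17 = (CF4 K).x (πSz ⟨(3, 3), by decide⟩) from rfl]
    simp only [← hι, ← map_mul]
    refine congrArg ι (Subtype.ext (sub_inj ((h1 (M.w * M.u 0 1 * M.w)).symm.trans ?_)))
    simp only [Submonoid.coe_mul, ← Matrix.submatrix_mul_equiv _ _ i4 i4 i4, map_mul, M.mat_w, M.mat_u]
    erw [sub_xSp, sub_xSp]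
    ext a b
    fin_cases a <;> fin_cases b <;> simp [sub_e', πSz, Matrix.mul_apply, Fin.sum_univ_four,
      Sz.Tits.uM, Sz.Tits.f, Matrix.one_apply, Sz.wM, Matrix.single_apply]

variable (hm : 1 ≤ m) {E : Type*} [Group E] [Finite E] {f : E →* chevF4.group K}
  (hc : f.ker ≤ center E) (hf : f.range = KF4 K (2 ^ m))
include hm hc hf

theorem card_Lk_one [CharP K 2] (hk : (Nat.card f.ker).Coprime 2) :
    Nat.card ↥(Lk (CF4 K) f symF4 2 1 ⊓ (CF4 K).H.comap f) ∣ Nat.card K - 1 := by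
  have := h.finite
  obtain ⟨Γ, _, M, ι, h1, h2⟩ := h.exists_Sz
  have := M.finite
  have h3 : ι (M.u 0 1) ≠ 1 := fun e => by
    simpa using inj4_F4 (a' := 0) (b' := 0) (c' := 0) (d' := 0) ((h1 0 1).symm.trans (by simpa))
  have := M.isSimpleGroup ((exists_sq_ne_one (K := K) (by have := h.lt_card hm; omega)).elim
    fun t ht => ⟨t, t.ne_zero, fun e => ht (by rw [show t = 1 from Units.ext e, one_pow])⟩)
  have h4 : Function.Injective ι := (MonoidHom.ker_eq_bot_iff ι).1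
    (ι.normal_ker.eq_bot_or_eq_top.resolve_right fun e => h3 (e.ge (mem_top _)))
  have h5 : S.X 1 = M.U.map ι := by
    ext g
    rw [h.mem_X1]
    refine ⟨fun ⟨t, u, e⟩ => ⟨_, M.u_mem_U _ _, (h1 t u).trans e.symm⟩, ?_⟩
    rintro ⟨_, ⟨a, b, rfl⟩, rfl⟩
    exact ⟨ψ a, b - a * ψ a, by rw [← h1, h.φψ, add_sub_cancel]⟩
  have h6 : (Lk (CF4 K) f symF4 2 1).map f ≤ ι.range := map_Lk_le h.isTw hf
    (h5.le.trans (map_le_range _ _)) (h2 ▸ by simpa using h.mem_Y1 0 1) (fun e => h3 (by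
      simpa [← map_mul, mul_assoc, ← mul_assoc M.w M.w] using congrArg (ι M.w * · * ι M.w) e))
    ⟨M.w * M.u 0 1 * M.w, rfl⟩
  have h7 : Lk (CF4 K) f symF4 2 1 ⊓ f.ker = ⊥ := by
    rw [Lk, pl, pl, ← Subgroup.closure_union] at h6 ⊢
    refine inf_ker_of_cyclic hc hk (fun x hx => hx.elim And.right And.right) fun r hr h7 A hA h8 => ?_
    have := Fact.mk hr
    rw [← map_comap_eq_self (hA.trans h6)]
    have := M.isCyclic_of_isPGroup (by rintro rfl; simp at h7) (h8.comap_of_injective ι h4)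
    exact isCyclic_of_surjective _ (ι.subgroupMap_surjective _)
  have h8 : (CF4 K).H.comap ι ⊓ (KF4 K (2 ^ m)).comap ι ≤ M.B := fun g hg => by
    refine M.mem_B_of_conj (M.u_mem_U 0 1) (by simp [M.u_eq_one]) (M.U_le_B ?_)
    have h9 := h5.ge ⟨_, M.u_mem_U 0 1, rfl⟩
    have h10 := h.isTw.le_fix hg.2
    rw [← mem_map_iff_mem h4, ← h5, map_mul, map_mul, map_inv]
    exact ⟨(mem_normalizer_iff.1 ((CF4 K).H_le_normalizer _ hg.1) _).1 h9.1,
      S.Fix.mul_mem (S.Fix.mul_mem h10 h9.2) (inv_mem h10)⟩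
  have h9 := (card_dvd_of_le (H := (Lk (CF4 K) f symF4 2 1 ⊓ (CF4 K).H.comap f).map f) (by
    rintro _ ⟨x, hx, rfl⟩
    obtain ⟨g, hg⟩ := h6 ⟨x, hx.1, rfl⟩
    exact ⟨g, h8 ⟨mem_comap.2 (hg ▸ mem_comap.1 hx.2), mem_comap.2 (hg ▸ hf.le ⟨x, rfl⟩)⟩, hg⟩)).trans
      (card_map_dvd ι (H := M.B))
  rw [M.card_B] at h9
  refine (card_dvd_of_injective (f.subgroupMap _) ((injective_iff_map_eq_one _).2 fun x hx =>
    Subtype.ext (h7.le ⟨(mem_inf.1 x.2).1, congrArg Subtype.val hx⟩))).trans (Nat.Coprime.dvd_of_dvd_mul_left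
      (h.card ▸ (((Nat.prime_two.coprime_iff_not_dvd.2 (Faithful.not_dvd_card_H (C := CF4 K)
        2)).symm.coprime_dvd_left (card_dvd_of_le ?_)).pow_right _).pow_right 2) h9)
  exact map_le_iff_le_comap.2 inf_le_right

theorem ker_eq_bot [CharP K 2] (hs : f.ker ≤ commutator E) : f.ker = ⊥ := by
  have := h.finite
  have hk := h.coprime_two hm hc hf hs
  have h1 := card_ker_mul_dvd h.isTw hc hk hf h.gen hs (m := fun _ => Nat.card K - 1) fun k => by
    fin_cases k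
    · refine card_Lk_orth h.isTw hc hk hf (by decide) orb0_F4 (orth_two (by decide) A03_F4)
        ![RingHom.id K, ψ, ψ, ψ] ?_ fun t ht => ⟨t 0, ?_⟩
      · simp [symF4_π, πF4, h.θ_eq, h.φψ]
      · simpa [h.θ_eq, symF4_π, πF4] using ht 0 (by simp)
    · exact h.card_Lk_one hm hc hf hk
  rw [h.cardH, ← h.card, Fin.prod_univ_two, ← sq, ← mul_one ((_ - 1) ^ 2), mul_assoc] at h1
  have := h.lt_card hm
  exact card_eq_one.1 (by simpa using Nat.dvd_of_mul_dvd_mul_left (pow_pos (by omega) 2) h1)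

end IsF4

theorem multiplier_F4 {K : Type*} [Field K] [Fintype K] {m : ℕ} (hm : 1 ≤ m)
    (hK : Fintype.card K = 2 ^ (2 * m + 1)) : HasCyclicSchurMultiplier (twistedF4 K (2 ^ m)) 1 := by
  obtain ⟨S, φ, ψ, h⟩ := exists_isF4 hK
  have e := equivOfMap (subtype_injective _) (map_KF4 (K := K) (e := 2 ^ m))
  have := faithful_F4.finite (sysG_grp checkedF4 K)
  have : Finite (twistedF4 K (2 ^ m)) := .of_equiv _ e.symm.toEquiv
  have : CharP K 2 := charP_of_card_eq_prime_pow hK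
  refine Schur.hasCyclicSchurMultiplier_one_iff.2 fun E _ _ σ hσ => ?_
  obtain ⟨f, h1, h2⟩ := exists_of_stem e hσ
  exact h1 ▸ h.ker_eq_bot hm (h1 ▸ hσ.2.1) h2 (h1 ▸ hσ.2.2)

end Cfsg.Lib.Twisted
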