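import Cfsg.Agent.Lib.Chev.Gen2
import Cfsg.Agent.Lib.Twisted.MultSz

/-!
The twisted groups ²E₆, ³D₄, ²F₄ are generated by two elements.
-/

namespace Cfsg.Lib.Twisted

open Cfsg.Lie Cfsg.Lib.Chev Cfsg.Lib.Chev.RootSys Cfsg.Lib.Chev.PreSys Cfsg.Lib.Chev.ChevSys
  Cfsg.Lib.BN Subgroup Equiv Twist

theorem seed_rel {F G : Type*} [Field F] [Finite F] [Group G] {K : Subgroup G} {P : G → F → Prop}
    (hm : ∀ g g' t t', P g t → P g' t' → P (g * g') (t + t')) (hi : ∀ g t, P g t → P g⁻¹ (-t))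
    {k k' x : G} {a a' : Fˣ} (ha : Big a) (ha' : a' ≠ 1)
    (h1 : ∀ g t, P g t → P (k * g * k⁻¹) (a * t)) (h2 : ∀ g t, P g t → P (k' * g * k'⁻¹) (a' * t))
    (h3 : k * k' = k' * k) (hx : P x 1) (hk : k ∈ K) (hk' : x * k' * x⁻¹ ∈ K) (t : F) :
    ∃ g ∈ K, P g t := by
  let D : Subgroup (Multiplicative F) :=
    { carrier := {t | ∃ g ∈ K, P g t.toAdd}
      one_mem' := ⟨1, one_mem _, by simpa using hm _ _ _ _ hx (hi _ _ hx)⟩
      mul_mem' := fun ⟨_, e1, e2⟩ ⟨_, e3, e4⟩ => ⟨_, mul_mem e1 e3, hm _ _ _ _ e2 e4⟩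
      inv_mem' := fun ⟨_, e1, e2⟩ => ⟨_, inv_mem e1, hi _ _ e2⟩ }
  refine mem_of_smul (K := D) (x := Multiplicative.ofAdd) (fun _ _ => rfl) ha
    (fun t ⟨g, e1, e2⟩ => ⟨_, mul_mem (mul_mem hk e1) (inv_mem hk), h1 _ _ e2⟩)
    (u := (a - 1) * (1 - a')) (mul_ne_zero (sub_ne_zero.2 (mt Units.val_eq_one.1 ha.1))
      (sub_ne_zero.2 (Ne.symm (mt Units.val_eq_one.1 ha')))) ⟨_,
        mul_mem (mul_mem (mul_mem hk hk') (inv_mem hk)) (inv_mem hk'), ?_⟩ t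
  rw [show k * (x * k' * x⁻¹) * k⁻¹ * (x * k' * x⁻¹)⁻¹ = (k * x * k⁻¹) *
    ((k * k' * k⁻¹) * ((k * x * k⁻¹)⁻¹ * x) * k'⁻¹) * x⁻¹ by group, h3, mul_inv_cancel_right]
  convert hm _ _ _ _ (hm _ _ _ _ (h1 _ _ hx) (h2 _ _ (hm _ _ _ _ (hi _ _ (h1 _ _ hx)) hx))) (hi _ _ hx)
    using 1
  simp only [toAdd_ofAdd]
  ring

theorem big_of_inj {F : Type*} [Field F] [Finite F] (h : 2 < Nat.card F) :
    ∃ ξ : Fˣ, orderOf ξ = Nat.card F - 1 ∧ ∀ f : Fˣ →* Fˣ, Function.Injective f → Big (f ξ) := by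
  obtain ⟨ξ, hξ⟩ := IsCyclic.exists_generator (α := Fˣ)
  have h1 := (orderOf_eq_card_of_forall_mem_zpowers hξ).trans (Nat.card_units F)
  refine ⟨ξ, h1, fun f hf => ⟨fun e => ?_, fun s => ?_⟩⟩
  · rw [(map_eq_one_iff f hf).1 e, orderOf_one] at h1
    omega
  · obtain ⟨u, hu⟩ := Finite.injective_iff_surjective.1 hf (s ^ 2)
    obtain ⟨n, rfl⟩ := hξ u
    exact ⟨n, (map_zpow f ξ n).symm.trans hu⟩

theorem big_sq {F : Type*} [Field F] [Finite F] (h : 3 < Nat.card F) :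
    ∃ ξ : Fˣ, orderOf ξ = Nat.card F - 1 ∧ Big (ξ ^ 2) := by
  obtain ⟨ξ, hξ⟩ := IsCyclic.exists_generator (α := Fˣ)
  have h1 := (orderOf_eq_card_of_forall_mem_zpowers hξ).trans (Nat.card_units F)
  refine ⟨ξ, h1, fun e => ?_, fun s => ?_⟩
  · have := Nat.le_of_dvd two_pos (orderOf_dvd_of_pow_eq_one e)
    omega
  · obtain ⟨n, rfl⟩ := hξ s
    exact ⟨n, by simp only [← zpow_natCast, ← zpow_mul, mul_comm]⟩

theorem exists_eq_of_lin {F : Type*} [Field F] {φ : F →+* F} {f : F → F}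
    (h : ∀ c t, φ c = c → f (c * t) = c * f t) (h' : ∀ t, φ (f t) = f t) {s : F} (hs : f s ≠ 0)
    {v : F} (hv : φ v = v) : ∃ t, f t = v :=
  ⟨_, (h (v / f s) s (by rw [map_div₀, hv, h'])).trans (div_mul_cancel₀ _ hs)⟩

open Polynomial in
theorem exists_trace_ne {F : Type*} [Field F] [Fintype F] {q n : ℕ} (hq : 1 < q)
    (h : Fintype.card F = q ^ (n + 1)) : ∃ s : F, ∑ i ∈ Finset.range (n + 1), s ^ q ^ i ≠ 0 := by
  obtain ⟨s, hs⟩ := exists_eval_ne_zero_of_natDegree_lt_card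
    (∑ i ∈ Finset.range (n + 1), Polynomial.X ^ q ^ i : F[X]) (fun e => by
      have := congrArg (coeff · 1) e
      simp only [finsetSum_coeff, coeff_X_pow, coeff_zero] at this
      rw [Finset.sum_eq_single 0 (fun i _ hi => if_neg (Nat.one_lt_pow hi hq).ne) (by simp)] at this
      simp at this) (by
      rw [Cardinal.mk_fintype, h, Nat.cast_lt]
      exact (natDegree_sum_le_of_forall_le _ _ fun i hi => (natDegree_X_pow_le _).trans
        (Nat.pow_le_pow_right hq.le (Nat.lt_succ_iff.1 (Finset.mem_range.1 hi)))).trans_lt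
        (Nat.pow_lt_pow_right hq n.lt_succ_self))
  exact ⟨s, by simpa [eval_finsetSum] using hs⟩

section General

variable {ι Φ : Type} [Fintype ι] [DecidableEq ι] {R : RootSys ι Φ} {F : Type*} [Field F]
  {G : Type*} [Group G] {C : ChevSys R F G} {κ : Type} {T : Sym R κ} {S : Twist C T}
  {K L : Subgroup G}

variable (C) in
/-- The elements of the Weyl group with a representative in `L`. -/
def WL (L : Subgroup G) : Subgroup (Perm Φ) where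
  carrier := {w | ∃ n ∈ L, C.NW n w}
  one_mem' := ⟨1, one_mem _, nw_one⟩
  mul_mem' := fun ⟨_, h1, h2⟩ ⟨_, h3, h4⟩ => ⟨_, mul_mem h1 h3, h2.mul h4⟩
  inv_mem' := fun ⟨_, h1, h2⟩ => ⟨_, inv_mem h1, h2.inv⟩

theorem wp_pow_mem {W : Type*} [Group W] {A : Subgroup W} {s : κ → W} {l : List κ}
    (h : wp s l ∈ A) (n : ℕ) : wp s (List.replicate n l).flatten ∈ A := by
  induction n with
  | zero => exact one_mem _
  | succ n ih => exact List.replicate_succ ▸ List.flatten_cons ▸ wp_append s _ _ ▸ mul_mem h ih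

theorem inf_le_of_WL (hL : L ≤ S.Fix) {A B : Set Φ} (h : C.XS A ⊓ S.Fix ≤ L) {w : Perm Φ}
    (hw : w ∈ WL C L) (hB : ∀ s ∈ B, w s ∈ A) : C.XS B ⊓ S.Fix ≤ L := fun g hg => by
  obtain ⟨n, h1, h2⟩ := hw
  obtain ⟨c, hc⟩ := h2.exists_acts
  exact (mul_mem_cancel_left h1).1 ((mul_mem_cancel_right (inv_mem h1)).1 (h ⟨hc.conj_mem hB hg.1,
    S.Fix.mul_mem (S.Fix.mul_mem (hL h1) hg.2) (S.Fix.inv_mem (hL h1))⟩))

variable [Fintype Φ] (hK : S.IsTw K)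
include hK

theorem s_mem_WL {k : κ} (h1 : S.X k ≤ L) (h2 : S.Y k ≤ L) : T.s k ∈ WL C L := by
  obtain ⟨v, hv, e1, e2⟩ := hK.neg k
  obtain ⟨a, ha, n, hn, b, hb, rfl⟩ := hK.decomp_neg hv e1 e2
  exact ⟨n, (mul_mem_cancel_left (h1 ha)).1 ((mul_mem_cancel_right (h1 hb)).1
    (h2 ⟨e2, hK.le_fix hv⟩)), hn⟩

theorem le_of_WL (hgen : K ≤ ⨆ k, S.X k ⊔ S.Y k) (hL : L ≤ K) (h1 : ∀ k, S.X k ≤ L)
    (h2 : ∀ k, T.s k ∈ WL C L) : K ≤ L :=
  hgen.trans (iSup_le fun k => sup_le (h1 k) (inf_le_of_WL (hL.trans hK.le_fix) (h1 k) (h2 k)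
    fun _ => wJ_mem_posJ.2))

theorem chi_π {k : G} (hk : k ∈ K) {χ : Φ → Fˣ} (h : C.Acts k 1 χ) (i : ι) :
    (χ (R.simple (T.π i)) : F) = S.θ i (χ (R.simple i)) := by
  have h1 := congrArg S.σ (h.conj (R.simple i) 1)
  rw [map_mul, map_mul, map_inv, mem_Fix.1 (hK.le_fix hk), Perm.one_apply, S.σ_pos, S.σ_pos,
    h.conj, map_one, mul_one, mul_one] at h1
  exact xs_inj hK.faithful (l := [T.π i]) (t := fun _ => _) (t' := fun _ => _) (by simp)
    (by simpa [xs] using h1) _ (List.mem_singleton_self _)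

theorem twoGen_tw [Finite F] (hA : C.Adjoint) {w : Perm Φ} (hw : w ∈ T.W1) {χ : Φ → Fˣ}
    (hχ : Ch C K χ) {r : Φ} (h1 : Big (χ r)) (h2 : χ (w⁻¹ r) ≠ 1) {P : G → F → Prop}
    (hm : ∀ g g' t t', P g t → P g' t' → P (g * g') (t + t')) (hi : ∀ g t, P g t → P g⁻¹ (-t))
    (hc : ∀ k ∈ K, ∀ χ, C.Acts k 1 χ → ∀ g t, P g t → P (k * g * k⁻¹) (χ r * t))
    {x : G} (hx : P x 1) (hxK : x ∈ K)
    (H : ∀ L ≤ K, (∀ t, ∃ g ∈ L, P g t) → x ∈ L ∧ (w ∈ WL C L → K ≤ L)) : TwoGen K := by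
  obtain ⟨k, hk, hk', hχ⟩ := hχ
  obtain ⟨n, hn, hn'⟩ := hK.exists_nw hw
  obtain ⟨c, hc'⟩ := hn'.exists_acts
  have a1 : C.Acts (n * k * n⁻¹) 1 fun s => χ (w⁻¹ s) :=
    ((hc'.mul hχ).mul hc'.inv).congr (by simp) fun s => by simp
  refine ⟨⟨k, hk⟩, ⟨x * n, mul_mem hxK hn⟩, ?_⟩
  have e : K ≤ closure {k, x * n} := by
    have g1 : k ∈ closure {k, x * n} := subset_closure (by simp)
    have g2 : x * n ∈ closure {k, x * n} := subset_closure (by simp)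
    obtain ⟨g3, g4⟩ := H (closure {k, x * n}) ((closure_le _).2 (by
      rintro _ (rfl | rfl)
      exacts [hk, mul_mem hxK hn])) (seed_rel hm hi h1 h2 (hc k hk _ hχ)
        (hc _ (mul_mem (mul_mem hn hk) (inv_mem hn)) _ a1)
        (comm_of_mem_H hA hk' (C.conj_mem_H hn'.mem_N hk')) hx g1
        (by simpa only [mul_inv_rev, mul_assoc] using mul_mem (mul_mem g2 g1) (inv_mem g2)))
    exact g4 ⟨n, (mul_mem_cancel_left g3).1 g2, hn'⟩
  refine map_injective K.subtype_injective (le_antisymm (map_mono le_top) ?_)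
  rwa [← MonoidHom.range_eq_map, range_subtype, MonoidHom.map_closure, Set.image_pair]

theorem twoGen_orth [Finite F] (hA : C.Adjoint) {w : Perm Φ} (hw : w ∈ T.W1) {χ : Φ → Fˣ}
    (hχ : Ch C K χ) {k : κ} {l : List ι} (hl : l.Nodup) (hk : ∀ i, i ∈ l ↔ T.orb i = k)
    (ho : ∀ i ∈ l, ∀ j ∈ l, i ≠ j → R.A i j = 0) (f : ι → F →+* F)
    (h3 : ∀ i ∈ l, ∀ t, f (T.π i) t = S.θ i (f i t))
    (h4 : ∀ t : ι → F, (∀ i ∈ l, t (T.π i) = S.θ i (t i)) → ∃ u, ∀ i ∈ l, t i = f i u)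
    {j : ι} (hj : j ∈ l) (hf : ∀ t, f j t = t) (h1 : Big (χ (R.simple j)))
    (h2 : χ (w⁻¹ (R.simple j)) ≠ 1)
    (H : ∀ L ≤ K, S.X k ≤ L → w ∈ WL C L → K ≤ L) : TwoGen K := by
  have e0 : ∀ {t u : ι → F}, (∀ i ∈ l, t i = u i) → xs C l t = xs C l u := fun h =>
    congrArg List.prod (List.map_congr_left fun i hi => by rw [h i hi])
  have e1 : ∀ t u : F, xs C l (f · (t + u)) = xs C l (f · t) * xs C l (f · u) := fun t u => by
    simp only [xs, map_add, C.x_add]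
    exact prod_map_mul hl ho (fun i => x_mem_Lv i _) fun i => x_mem_Lv i _
  refine twoGen_tw hK hA hw hχ h1 h2 (P := fun g t => g = xs C l (f · t)) ?_ ?_ ?_ rfl
    (hK.pos k (xs_mem_X hl hk ho fun i hi => h3 i hi 1)) fun L hL h => ?_
  · rintro _ _ t u rfl rfl
    exact (e1 t u).symm
  · rintro _ t rfl
    exact (addFam_neg (x := fun t => xs C l (f · t)) e1 t).symm
  · rintro g hg χ hχ _ t rfl
    obtain ⟨u, hu⟩ := h4 (fun i => χ (R.simple i)) fun i _ => chi_π hK hg hχ i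
    rw [e0 (t := (f · (χ (R.simple j) * t))) (u := fun i => χ (R.simple i) * f i t) fun i hi => by
      rw [map_mul, hu j hj, hf, hu i hi]]
    clear e0 e1 hu h3 h4 hj ho hk hl
    induction l with
    | nil => simp [xs]
    | cons i l ih =>
      simp only [xs, List.map_cons, List.prod_cons] at ih ⊢
      rw [← ih, ← show _ = C.x (R.simple i) _ from hχ.conj _ _]
      group
  · have : S.X k ≤ L := fun g hg => by
      obtain ⟨t, ht, rfl⟩ := (mem_X_iff hl hk ho hK.faithful).1 hg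
      obtain ⟨u, hu⟩ := h4 t ht
      obtain ⟨_, hg, rfl⟩ := h u
      rwa [e0 hu]
    exact ⟨this (xs_mem_X hl hk ho fun i hi => h3 i hi 1), H L hL this⟩

end General

section Tab

variable {D : ChevalleyDatum} {c : Cert} (h : Checked D c) {F : Type*} [Field F]

theorem xsw0 (r s : ℕ) (e : r < D.nroots ∧ s < D.nroots ∧ s ≠ r ∧ s ≠ D.neg r ∧
    D.commTerms r s = [] := by decide +kernel) (t u : F) (g) :
    xN h s u * (xN h r t * g) = xN h r t * (xN h s u * g) := by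
  rw [← mul_assoc, xN_comm h e]
  simp [mul_assoc]

theorem xsw1 (r s k : ℕ) (a : ℤ) (e : r < D.nroots ∧ s < D.nroots ∧ s ≠ r ∧ s ≠ D.neg r ∧
    D.commTerms r s = [(k, a, 1, 1)] := by decide +kernel) (t u : F) (g) :
    xN h s u * (xN h r t * g) = xN h r t * (xN h s u * (xN h k (a * -t * u) * g)) := by
  rw [← mul_assoc, xN_comm h e]
  simp [mul_assoc]

theorem xswA (r : ℕ) (t u : F) (g) : xN h r t * (xN h r u * g) = xN h r (t + u) * g := by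
  rw [xN_add, mul_assoc]

theorem conj_tab (i : Fin D.rank) (r s : ℕ) (e : ℤ) (H : r < D.nroots ∧ t8 (wT c i) r = s ∧
    sg (t1 (eT c i) r) = e := by decide +kernel) (t : F) : (sysG h F).n (h.R.simple i) 1 * xN h r t *
    ((sysG h F).n (h.R.simple i) 1)⁻¹ = xN h s (e * t) := by
  obtain ⟨h1, rfl, rfl⟩ := H
  rw [show xN h r t = _ from xN_val h ⟨r, h1⟩ t, ((sysG h F).acts_n_simple i).conj, ← xN_val,
    h.sref_val, coe_η]

theorem xN_mem_XS {A : Set (Fin D.nroots)} {a : List ℕ} (hA : ∀ r, r ∈ A ↔ r.val ∈ a) {r : ℕ} {t : F}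
    (hr : r ∈ a := by decide) : xN h r t ∈ (sysG h F).XS A := by
  unfold xN
  split_ifs with e
  exacts [(sysG h F).x_mem ((hA ⟨r, e⟩).2 hr) t, one_mem _]

theorem wp_s_val {κ : Type} {T : Sym h.R κ} (Y : Keys T) (l : List κ) (r : Fin D.nroots) :
    (wp T.s l r).val = (l.flatMap Y.ws).foldr (fun (i : Fin D.rank) s => t8 (wT c i) s) r.val := by
  induction l with
  | nil => rfl
  | cons k l ih => rw [wp_cons, Perm.mul_apply, Y.s_eq, wp_val, ih, List.flatMap_cons, List.foldr_append]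

theorem inf_le_tab {κ : Type} {T : Sym h.R κ} (Y : Keys T) {S : Twist (sysG h F) T}
    {L : Subgroup (D.group F)} (hL : L ≤ S.Fix) {A B : Set (Fin D.nroots)} {a b : List ℕ}
    (hA : ∀ r, r ∈ A ↔ r.val ∈ a) (hB : ∀ r, r ∈ B ↔ r.val ∈ b)
    (e : (sysG h F).XS A ⊓ S.Fix ≤ L) (l : List κ) (hl : wp T.s l ∈ WL (sysG h F) L)
    (H : ∀ s ∈ b, (l.flatMap Y.ws).foldr (fun (i : Fin D.rank) s => t8 (wT c i) s) s ∈ a) :
    (sysG h F).XS B ⊓ S.Fix ≤ L :=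
  inf_le_of_WL hL e hl fun s hs => (hA _).2 (wp_s_val h Y l s ▸ H _ ((hB s).1 hs))

end Tab

section D4

theorem posJ_D4 (k : Fin 2) (r : Fin 24) :
    r ∈ posJ RD4 (symD4.J k) ↔ r.val ∈ ![[14], [18, 13, 12]] k := by
  change (RD4.IsPos r ∧ ∀ i, orbD4 i ≠ k → RD4.α r i = 0) ↔ _
  revert k r
  decide +kernel

theorem negJ_D4 (k : Fin 2) (r : Fin 24) :
    r ∈ negJ RD4 (symD4.J k) ↔ r.val ∈ ![[9], [5, 10, 11]] k := by
  change (¬ RD4.IsPos r ∧ ∀ i, orbD4 i ≠ k → RD4.α r i = 0) ↔ _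
  revert k r
  decide +kernel

variable {K : Type*} [Field K]

theorem comm_D4 (a b c : K) : xN checkedD4 19 a * (xN checkedD4 16 (-b) * xN checkedD4 15 (-c)) *
    (xN checkedD4 5 1 * (xN checkedD4 10 1 * xN checkedD4 11 1)) * 1 =
    xN checkedD4 5 1 * (xN checkedD4 10 1 * xN checkedD4 11 1) *
      (xN checkedD4 19 a * (xN checkedD4 16 (-b) * xN checkedD4 15 (-c))) *
        (xN checkedD4 14 (a + b + c) * 1) := by
  simp only [mul_assoc, xswA, xsw1 checkedD4 5 19 14 (-1), xsw1 checkedD4 10 16 14 1,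
    xsw1 checkedD4 11 15 14 1, xsw0 checkedD4 5 16, xsw0 checkedD4 5 15, xsw0 checkedD4 10 19,
    xsw0 checkedD4 10 15, xsw0 checkedD4 11 19, xsw0 checkedD4 11 16, xsw0 checkedD4 10 14,
    xsw0 checkedD4 11 14, xsw0 checkedD4 16 14, xsw0 checkedD4 15 14]
  simp [add_comm c]

theorem twoGen_D4 [Fintype K] {q : ℕ} (hq : IsPrimePow q) (hK : Fintype.card K = q ^ 3) :
    TwoGen (twistedD4 K q) := by
  obtain ⟨S, hθ⟩ := exists_twist_D4 hq hK
  have h2 := hq.two_le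
  have hT := isTw_D4 hK hθ
  have h8 : 2 ^ 3 ≤ q ^ 3 := Nat.pow_le_pow_left h2 3
  obtain ⟨ξ, h0, hξ⟩ := big_sq (F := K) (by rw [Nat.card_eq_fintype_card, hK]; omega)
  rw [Nat.card_eq_fintype_card, hK] at h0
  refine TwoGen.map (φ := (equivOfMap (subtype_injective _) map_KD4).symm.toMonoidHom) ?_
    (MulEquiv.surjective _)
  refine twoGen_orth hT adjoint_D4 (Sym.wp_mem_W1 [0, 1]) (ch_D4 hK hθ (RD4.simple 0) ξ) (by decide)
    orb1_D4 orth_D4 ![RingHom.id K, RingHom.id K, S.θ 0, (S.θ 2).comp (S.θ 0)] ?_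
    (fun t ht => ⟨t 0, ?_⟩) (j := 0) (by simp) (fun _ => rfl) ?_ ?_ fun L hL h1 h3 => ?_
  · simp [symD4_π, πD4, θθθ_D4 hK hθ]
  · have h4 : t 2 = S.θ 0 (t 0) := ht 0 (by simp)
    have h5 : t 3 = S.θ 2 (t 2) := ht 2 (by simp)
    simp [h4, h5]
  · rwa [show RD4.pair (RD4.simple 0) (RD4.simple 0) = 2 by decide +kernel,
      show RD4.pair (RD4.simple 0) (symD4.ρ⁻¹ (RD4.simple 0)) = 0 by decide +kernel,
      show RD4.pair (RD4.simple 0) (symD4.ρ⁻¹ (symD4.ρ⁻¹ (RD4.simple 0))) = 0 by decide +kernel,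
      mul_zero, mul_zero, add_zero, add_zero, zpow_ofNat]
  · rw [show (wp symD4.s [0, 1])⁻¹ (RD4.simple 0) = 17 from Perm.inv_eq_iff_eq.2 (Fin.ext
      ((wp_s_val checkedD4 keysD4 _ _).trans (by decide +kernel)).symm),
      show RD4.pair (RD4.simple 0) 17 = -1 by decide +kernel,
      show RD4.pair (RD4.simple 0) (symD4.ρ⁻¹ 17) = 1 by decide +kernel,
      show RD4.pair (RD4.simple 0) (symD4.ρ⁻¹ (symD4.ρ⁻¹ 17)) = 1 by decide +kernel,
      Ne, ← orderOf_dvd_iff_zpow_eq_one, h0]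
    have h3 : (2 : ℤ) ≤ q := by exact_mod_cast h2
    refine fun e => absurd (Int.le_of_dvd (by nlinarith) e) ?_
    rw [Nat.cast_sub (by omega)]
    push_cast
    nlinarith [mul_le_mul h3 h3 (by norm_num) (by omega)]
  have hL' := hL.trans hT.le_fix
  have h4 : S.Y 1 ≤ L := inf_le_tab checkedD4 keysD4 hL' (posJ_D4 1) (negJ_D4 1) h1 [0, 1, 0, 1, 0, 1]
    (wp_pow_mem h3 3) (by decide +kernel)
  have h5 := s_mem_WL hT h1 h4
  have h6 : symD4.s 0 ∈ WL (CD4 K) L := by simpa using mul_mem h3 (inv_mem h5)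
  have h7 := inf_le_tab checkedD4 keysD4 hL' (B := {r | r.val ∈ [19, 16, 15]}) (posJ_D4 1)
    (fun _ => Iff.rfl) h1 [0] (mul_mem h6 (one_mem _)) (by decide +kernel)
  refine le_of_WL hT (gen_D4 hK hθ) hL (Fin.forall_fin_two.2 ⟨fun g hg => ?_, h1⟩)
    (Fin.forall_fin_two.2 ⟨h6, h5⟩)
  obtain ⟨v, hv, rfl⟩ := (mem_X_one orb0_D4 faithful_D4).1 hg
  obtain ⟨s, hs⟩ := exists_trace_ne (n := 2) h2 hK
  obtain ⟨t, rfl⟩ := exists_eq_of_lin (φ := S.θ 1) (f := fun t => t + S.θ 1 t + S.θ 1 (S.θ 1 t))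
    (fun c t e => by simp only [map_mul, e, mul_add]) (fun t => by
      simp only [map_add, θθθ_D4 hK hθ]; ring) (s := s)
    (by simpa [Finset.sum_range_succ, hθ, ← pow_mul, sq] using hs) hv
  have h9 : (sysG checkedD4 K).n (checkedD4.R.simple ⟨1, by decide⟩) 1 ∈ S.Fix := S.σ_n_one 1
  have h10 := S.Fix.mul_mem (S.Fix.mul_mem h9 (hT.le_fix (triple_mem_KD4 (r := 18) (s := 13) (u := 12)
    (by decide) t))) (S.Fix.inv_mem h9)
  rw [← conj_mul, ← conj_mul, conj_tab checkedD4 ⟨1, by decide⟩ 18 19 1,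
    conj_tab checkedD4 ⟨1, by decide⟩ 13 16 (-1), conj_tab checkedD4 ⟨1, by decide⟩ 12 15 (-1)] at h10
  simp only [Int.cast_one, Int.cast_neg, one_mul, neg_mul] at h10
  have h11 := h7 ⟨mul_mem (xN_mem_XS checkedD4 fun _ => Iff.rfl) (mul_mem
    (xN_mem_XS checkedD4 fun _ => Iff.rfl) (xN_mem_XS checkedD4 fun _ => Iff.rfl)), h10⟩
  have h12 := h4 ⟨mul_mem (xN_mem_XS checkedD4 (negJ_D4 1)) (mul_mem (xN_mem_XS checkedD4 (negJ_D4 1))
    (xN_mem_XS checkedD4 (negJ_D4 1))), hT.le_fix (triple_mem_KD4 (r := 5) (s := 10) (u := 11)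
      (by decide) 1)⟩
  simp only [one_pow] at h12
  have h13 := mul_mem (mul_mem h11 h12) L.one_mem
  rw [comm_D4, mul_mem_cancel_left (mul_mem h12 h11), mul_one] at h13
  simp only [xp_D4, hθ]
  exact h13

end D4

section E6

theorem posJ_E6 (k : Fin 4) (r : Fin 72) :
    r ∈ posJ RE6 (symE6.J k) ↔ r.val ∈ ![[46], [39], [42, 37], [56, 36]] k := by
  change (RE6.IsPos r ∧ ∀ i, orbE6 i ≠ k → RE6.α r i = 0) ↔ _
  revert k r
  decide +kernel

theorem negJ_E6 (k : Fin 4) (r : Fin 72) :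
    r ∈ negJ RE6 (symE6.J k) ↔ r.val ∈ ![[25], [32], [29, 34], [15, 35]] k := by
  change (¬ RE6.IsPos r ∧ ∀ i, orbE6 i ≠ k → RE6.α r i = 0) ↔ _
  revert k r
  decide +kernel

variable {K : Type*} [Field K]

theorem comm_E6 (a b : K) : xN checkedE6 43 a * xN checkedE6 40 (-b) *
    (xN checkedE6 29 1 * xN checkedE6 34 1) * 1 = xN checkedE6 29 1 * xN checkedE6 34 1 *
      (xN checkedE6 43 a * xN checkedE6 40 (-b)) * (xN checkedE6 39 (a + b) * 1) := by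
  simp only [mul_assoc, xswA, xsw1 checkedE6 29 43 39 (-1), xsw1 checkedE6 34 40 39 1,
    xsw0 checkedE6 29 40, xsw0 checkedE6 34 43, xsw0 checkedE6 34 39, xsw0 checkedE6 40 39]
  simp [add_comm]

theorem twoGen_E6 [Fintype K] {q : ℕ} (hq : IsPrimePow q) (hK : Fintype.card K = q ^ 2) :
    TwoGen (twistedE6 K q) := by
  obtain ⟨S, hθ⟩ := exists_twist_E6 hq hK
  have h2 := hq.two_le
  have hT := isTw_E6 hK hθ
  have h8 : 2 ^ 2 ≤ q ^ 2 := Nat.pow_le_pow_left h2 2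
  obtain ⟨ξ, h0, hξ⟩ := big_sq (F := K) (by rw [Nat.card_eq_fintype_card, hK]; omega)
  refine TwoGen.map (φ := (equivOfMap (subtype_injective _) map_KE6).symm.toMonoidHom) ?_
    (MulEquiv.surjective _)
  refine twoGen_orth hT adjoint_E6 (Sym.wp_mem_W1 [0, 1, 2, 3]) (ch_E6 hK hθ (RE6.simple 2) ξ)
    (by decide) orb2_E6 (orth_two (by decide) A24_E6) (fun a => if a = 2 then RingHom.id K else S.θ 2)
    ?_ (fun t ht => ⟨t 2, ?_⟩) (j := 2) (by simp) (fun _ => rfl) ?_ ?_ fun L hL h1 h3 => ?_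
  · simp [symE6_π, πE6, θθ_E6 hK hθ]
  · simpa [symE6_π, πE6] using ht 2 (by simp)
  · rwa [show RE6.pair (RE6.simple 2) (RE6.simple 2) = 2 by decide +kernel,
      show RE6.pair (RE6.simple 2) (symE6.ρ⁻¹ (RE6.simple 2)) = 0 by decide +kernel,
      mul_zero, mul_zero, add_zero, add_zero, zpow_ofNat]
  · rw [show (wp symE6.s [0, 1, 2, 3])⁻¹ (RE6.simple 2) = 41 from Perm.inv_eq_iff_eq.2 (Fin.ext
      ((wp_s_val checkedE6 keysE6 _ _).trans (by decide +kernel)).symm),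
      show RE6.pair (RE6.simple 2) 41 = -1 by decide +kernel,
      show RE6.pair (RE6.simple 2) (symE6.ρ⁻¹ 41) = 0 by decide +kernel]
    exact fun e => hξ.1 (by simp_all)
  have hL' := hL.trans hT.le_fix
  have tab := @inf_le_tab _ _ checkedE6 K _ _ _ keysE6 S L hL'
  have hY : ∀ k, S.X k ≤ L → S.Y k ≤ L := fun k e => tab (posJ_E6 k) (negJ_E6 k) e _
    (wp_pow_mem h3 6) (by clear e; revert k; decide +kernel)
  have h4 : S.X 3 ≤ L := tab (posJ_E6 2) (posJ_E6 3) h1 _ (wp_pow_mem h3 11) (by decide +kernel)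
  have h5 := s_mem_WL hT h1 (hY _ h1)
  have h6 := s_mem_WL hT h4 (hY _ h4)
  have h7 : wp symE6.s [0, 1] ∈ WL (CE6 K) L := by
    simpa [← mul_assoc] using mul_mem (mul_mem h3 (inv_mem h6)) (inv_mem h5)
  have h9 := tab (B := {r | r.val ∈ [43, 40]}) (posJ_E6 2) (fun _ => Iff.rfl) h1 _ h7 (by decide +kernel)
  have h10 : S.X 1 ≤ L := fun g hg => by
    obtain ⟨v, hv, rfl⟩ := (mem_X_one orb1_E6 faithful_E6).1 hg
    obtain ⟨s, hs⟩ := exists_trace_ne (n := 1) h2 hK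
    obtain ⟨t, rfl⟩ := exists_eq_of_lin (φ := S.θ 3) (f := fun t => t + S.θ 3 t)
      (fun c t e => by simp only [map_mul, e, mul_add]) (fun t => by
        simp only [map_add, θθ_E6 hK hθ]; ring) (s := s)
      (by simpa [Finset.sum_range_succ, hθ] using hs) hv
    have e1 : (sysG checkedE6 K).n (checkedE6.R.simple ⟨3, by decide⟩) 1 ∈ S.Fix := S.σ_n_one 3
    have e2 := S.Fix.mul_mem (S.Fix.mul_mem e1 (hT.le_fix (pair_mem_KE6 (r := 42) (s := 37)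
      (by decide) t))) (S.Fix.inv_mem e1)
    rw [← conj_mul, conj_tab checkedE6 ⟨3, by decide⟩ 42 43 1,
      conj_tab checkedE6 ⟨3, by decide⟩ 37 40 (-1)] at e2
    simp only [Int.cast_one, Int.cast_neg, one_mul, neg_mul] at e2
    have e3 := h9 ⟨mul_mem (xN_mem_XS checkedE6 fun _ => Iff.rfl)
      (xN_mem_XS checkedE6 fun _ => Iff.rfl), e2⟩
    have e4 := hY _ h1 ⟨mul_mem (xN_mem_XS checkedE6 (negJ_E6 2)) (xN_mem_XS checkedE6 (negJ_E6 2)),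
      hT.le_fix (pair_mem_KE6 (r := 29) (s := 34) (by decide) 1)⟩
    simp only [one_pow] at e4
    have e5 := mul_mem (mul_mem e3 e4) L.one_mem
    rw [comm_E6, mul_mem_cancel_left (mul_mem e4 e3), mul_one] at e5
    simp only [xp_E6, hθ]
    exact e5
  have h11 := s_mem_WL hT h10 (hY _ h10)
  refine le_of_WL hT (gen_E6 hK hθ) hL (fun k => ?_) fun k => ?_ <;> fin_cases k
  exacts [tab (posJ_E6 1) (posJ_E6 0) h10 _ h7 (by decide +kernel), h10, h1, h4,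
    by simpa using mul_mem h7 (inv_mem h11), h11, h5, h6]

end E6

section F4

theorem posJ_F4l (k : Fin 2) (r : Fin 48) :
    r ∈ posJ RF4 (symF4.J k) ↔ r.val ∈ ![[33, 24], [27, 25, 28, 30]] k := by
  change (RF4.IsPos r ∧ ∀ i, orbF4 i ≠ k → RF4.α r i = 0) ↔ _
  revert k r
  decide +kernel

theorem negJ_F4l (k : Fin 2) (r : Fin 48) :
    r ∈ negJ RF4 (symF4.J k) ↔ r.val ∈ ![[14, 23], [20, 22, 19, 17]] k := by
  change (¬ RF4.IsPos r ∧ ∀ i, orbF4 i ≠ k → RF4.α r i = 0) ↔ _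
  revert k r
  decide +kernel

variable {K : Type*} [Field K]

theorem comm_F4 (a b c : K) : xN checkedF4 34 1 * (xN checkedF4 26 1 * (xN checkedF4 36 1 * 1)) *
    (xN checkedF4 20 a * (xN checkedF4 22 b * (xN checkedF4 19 c * 1))) =
    xN checkedF4 20 a * (xN checkedF4 22 b * (xN checkedF4 19 c * 1)) *
      (xN checkedF4 34 1 * (xN checkedF4 26 1 * (xN checkedF4 36 1 * 1))) *
        (xN checkedF4 33 (-a) * (xN checkedF4 24 b * 1)) := by
  simp only [mul_assoc, one_mul, xsw1 checkedF4 20 34 33 1, xsw1 checkedF4 22 26 24 (-1),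
    xsw0 checkedF4 20 26, xsw0 checkedF4 20 36, xsw0 checkedF4 22 34, xsw0 checkedF4 22 36,
    xsw0 checkedF4 19 34, xsw0 checkedF4 19 26, xsw0 checkedF4 19 36, xsw0 checkedF4 22 33,
    xsw0 checkedF4 19 33, xsw0 checkedF4 26 33, xsw0 checkedF4 36 33, xsw0 checkedF4 19 24,
    xsw0 checkedF4 36 24, xsw0 checkedF4 33 24]
  simp

theorem twoGen_F4 [Fintype K] {m : ℕ} (hm : 1 ≤ m) (hK : Fintype.card K = 2 ^ (2 * m + 1)) :
    TwoGen (twistedF4 K (2 ^ m)) := by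
  obtain ⟨S, φ, ψ, h⟩ := exists_isF4 hK
  have : CharP K 2 := charP_of_card_eq_prime_pow hK
  have hT := h.isTw
  obtain ⟨ξ, -, hξ⟩ := big_of_inj (F := K) (by have := h.lt_card hm; omega)
  obtain ⟨Γ, _, M, ι, hι, -⟩ := h.exists_Sz
  have e0 : ∀ g, g ∈ S.X 1 ↔ ∃ t b, g = ι (M.u (φ t) b) := fun g => h.mem_X1.trans
    (exists_congr fun t => ⟨fun ⟨u, e⟩ => ⟨_, e.trans (hι t u).symm⟩,
      fun ⟨b, e⟩ => ⟨b - φ t * t, by rw [← hι, add_sub_cancel, e]⟩⟩)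
  refine TwoGen.map (φ := (equivOfMap (subtype_injective _) map_KF4).symm.toMonoidHom) ?_
    (MulEquiv.surjective _)
  refine twoGen_tw hT adjoint_F4 (Sym.wp_mem_W1 [0, 1]) (h.ch 1 0 0 0 ξ) (r := 25)
    (hξ _ (h.pw_inj (by decide +kernel))) ?_ (P := fun g t => ∃ b, g = ι (M.u (φ t) b)) ?_ ?_ ?_
    ⟨0, rfl⟩ (hT.pos 1 ((e0 _).2 ⟨_, _, rfl⟩)) fun L hL h0 => ?_
  · rw [show (wp symF4.s [0, 1])⁻¹ 25 = 31 from Perm.inv_eq_iff_eq.2 (Fin.ext
      ((wp_s_val checkedF4 keysF4 _ _).trans (by decide +kernel)).symm)]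
    exact (hξ _ (h.pw_inj (by decide +kernel))).1
  · rintro _ _ t u ⟨b, rfl⟩ ⟨c, rfl⟩
    exact ⟨_, by rw [← map_mul, M.u_mul_u, map_add]⟩
  · rintro _ t ⟨b, rfl⟩
    exact ⟨_, by rw [← map_inv, M.u_inv, h.neg_eq]⟩
  · rintro k hk χ hχ g t ⟨b, e⟩
    have e1 := (e0 g).2 ⟨t, b, e⟩
    obtain ⟨t', u, e2⟩ := h.mem_X1.1 ⟨hχ.conj_mem (fun _ => id) e1.1, S.Fix.mul_mem (S.Fix.mul_mem
      (hT.le_fix hk) e1.2) (S.Fix.inv_mem (hT.le_fix hk))⟩
    have e3 := e2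
    rw [e, ← add_sub_cancel (φ t * t) b, hι, ← conj_mul, ← conj_mul, ← conj_mul, hχ.conj, hχ.conj,
      hχ.conj, hχ.conj] at e3
    exact ⟨_, by rw [e2, ← hι, ← (inj4_F4 e3).2.1]⟩
  have h1 : S.X 1 ≤ L := fun g hg => by
    obtain ⟨t, b, rfl⟩ := (e0 g).1 hg
    obtain ⟨_, e1, c, rfl⟩ := h0 t
    obtain ⟨a, ha⟩ := Finite.injective_iff_surjective.1
      (fun _ _ => M.σ_mul_self_inj : Function.Injective fun a => M.σ a * a) (b - c)
    obtain ⟨_, e2, d, rfl⟩ := h0 (ψ a)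
    have := mul_mem e1 (mul_mem e2 e2)
    simpa [← map_mul, M.u_sq, M.u_mul_u, h.φψ, show M.σ a * a = _ from ha] using this
  refine ⟨h1 ((e0 _).2 ⟨_, _, rfl⟩), fun h3 => ?_⟩
  have tab := @inf_le_tab _ _ checkedF4 K _ _ _ keysF4 S L (hL.trans hT.le_fix)
  have h4 : S.Y 1 ≤ L := tab (posJ_F4l 1) (negJ_F4l 1) h1 _ (wp_pow_mem h3 4) (by decide +kernel)
  have h5 := s_mem_WL hT h1 h4
  have h6 : symF4.s 0 ∈ WL (CF4 K) L := by simpa using mul_mem h3 (inv_mem h5)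
  have h7 := tab (B := {r | r.val ∈ [34, 26, 36, 42]}) (posJ_F4l 1) (fun _ => Iff.rfl) h1 [0]
    (mul_mem h6 (one_mem _)) (by decide +kernel)
  refine le_of_WL hT h.gen hL (Fin.forall_fin_two.2 ⟨fun g hg => ?_, h1⟩)
    (Fin.forall_fin_two.2 ⟨h6, h5⟩)
  obtain ⟨t, rfl⟩ := h.mem_X0.1 hg
  have e1 := h7 ⟨mul_mem (xN_mem_XS checkedF4 fun _ => Iff.rfl) (mul_mem (xN_mem_XS checkedF4
    fun _ => Iff.rfl) (mul_mem (xN_mem_XS checkedF4 fun _ => Iff.rfl) (one_mem _))), hT.le_fix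
      (St.xl_mem checkedF4 hT (ρ := ρF4) (b := [34, 26, 36]) (fun _ => rfl) (by decide +kernel))⟩
  have e2 : xN checkedF4 20 (φ t) * (xN checkedF4 22 t * (xN checkedF4 19 (φ t * t) * 1)) ∈ L := by
    simpa [x_F4] using h4 (h.mem_Y1 t 0)
  have e3 := mul_mem e1 e2
  rw [comm_F4, mul_mem_cancel_left (mul_mem e2 e1), h.neg_eq, mul_one] at e3
  exact e3

end F4

end Cfsg.Lib.Twisted
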