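import Cfsg.Agent.Lib.Twisted.MultD4
import Cfsg.Agent.Lib.Twisted.AutF4

/-!
Central extensions of the twisted groups of type F₄: the part in characteristic two.
-/

set_option autoImplicit false
set_option maxRecDepth 100000

namespace Cfsg.Lib.Twisted
open Cfsg.Lie Cfsg.Lib.Chev Cfsg.Lib.Chev.RootSys Cfsg.Lib.Chev.PreSys Cfsg.Lib.Chev.ChevSys
  Subgroup Equiv Twist
open scoped commutatorElement

/-- The layers. -/
def rkF (r : Fin 48) : ℕ :=
  t8 0xb0a090b0807050a09080607040200060403050301020100000000000000000000000000000000000000000000000000 r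

/-- The exponents of the characters. -/
noncomputable def exF (a b c d : ℤ) (r : Fin 48) : ℤ × ℤ :=
  (a * caN chevF4 0 r + c * caN chevF4 1 r + 2 * d * caN chevF4 2 r + 2 * b * caN chevF4 3 r,
    b * caN chevF4 0 r + d * caN chevF4 1 r + c * caN chevF4 2 r + a * caN chevF4 3 r)

/-- A closed set of roots. -/
def AF : Set (Fin 48) := {r | 0 < RF4.α r 1 + RF4.α r 2 ∧
  RF4.α r 1 + RF4.α r 2 < 2 * RF4.α r 0 + 3 * RF4.α r 3}

theorem mem_AF : ∀ r, r ∈ AF ↔ r ∈ [26, 29, 34, 36, 38, 39, 41, 42, 43, 44, 45, 47] := by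
  unfold AF
  decide +kernel

theorem between_AF {r s k : Fin 48} (h1 : 0 ≤ RF4.α r 1 + RF4.α r 2)
    (h2 : RF4.α r 1 + RF4.α r 2 ≤ 2 * RF4.α r 0 + 3 * RF4.α r 3) (hs : s ∈ AF)
    (h : RF4.Between r s k) : k ∈ AF := by
  obtain ⟨i, j, hi, hj, e⟩ := h
  simp only [AF, Set.mem_ofPred_eq, e, Pi.add_apply, Pi.smul_apply, nsmul_eq_mul,
    Pi.mul_apply, Pi.natCast_apply] at hs ⊢
  zify at hi hj
  constructor <;> nlinarith [hs.1, hs.2]

theorem pos_F4 : ∀ r, RF4.IsPos r ↔ 24 ≤ r.val := by decide +kernel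

theorem s_F4 (k : Fin 2) (r : Fin 48) : (symF4.s k r).val =
    (keysF4.ws k).foldr (fun (i : Fin 4) s => t8 (wT certF4 i) s) r.val := by
  rw [keysF4.s_eq]
  exact wp_val checkedF4 _ _

theorem rkF_ρ : ∀ r, RF4.IsPos r → rkF (symF4.ρ r) = rkF r := by decide +kernel

theorem rkF_orb (r s : Fin 48) (hr : RF4.IsPos r) (hs : RF4.IsPos s) (e : rkF r = rkF s) :
    symF4.ρ.SameCycle r s := by
  have : s = r ∨ s = symF4.ρ r := by revert r s; decide +kernel
  rcases this with rfl | rfl <;> simp [Perm.SameCycle.refl]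

theorem rkF_lt : ∀ a c, RF4.IsPos a → RF4.α c = 1 • RF4.α a + RF4.α (symF4.ρ a) →
    rkF a < rkF c := by decide +kernel

theorem posJ_F4' (k : Fin 2) (r : Fin 48) : r ∈ posJ RF4 (symF4.J k) ↔ 24 ≤ r.val ∧
    ∀ i, orbF4 i ≠ k → RF4.α r i = 0 := and_congr_left' (pos_F4 r)

variable {K : Type*} [Field K]

/-- A character with given exponents. -/
def pw (ψ : K →+* K) (e : ℤ × ℤ) : Kˣ →* Kˣ :=
  zpowGroupHom e.1 * (zpowGroupHom e.2).comp (Units.map (ψ : K →* K))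

theorem rk_F4 [CharP K 2] : Rk (CF4 K) rkF := rk_of_cert checkedF4 2 (by
  change ∀ r s : Fin 48, RF4.IsPos r → RF4.IsPos s → r = s ∨ r.val ≠ chevF4.neg s ∧ ∀ k : Fin 48,
    k.val ∈ _ → RF4.IsPos k ∧ _
  simp only [pos_F4]
  decide +kernel)

namespace IsF4

variable {m : ℕ} {S : Twist (CF4 K) symF4} {φ ψ : K →+* K} (h : IsF4 m S φ ψ)
include h

theorem ψψ (t : Kˣ) : Units.map (ψ : K →* K) (Units.map (ψ : K →* K) t) = t ^ 2 :=
  Units.ext (by simpa [h.φψ] using h.ψ_eq (ψ t))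

theorem pw_inj {e : ℤ × ℤ} (he : e.1 ^ 2 - 2 * e.2 ^ 2 ∣ 8) : Function.Injective (pw ψ e) := by
  refine (injective_iff_map_eq_one _).2 fun t ht => ?_
  have h1 : t ^ e.1 * Units.map (ψ : K →* K) t ^ e.2 = 1 := ht
  have h2 := congrArg (Units.map (ψ : K →* K)) h1
  rw [map_mul, map_zpow, map_zpow, h.ψψ, map_one] at h2
  have h3 : t ^ (e.1 ^ 2 - 2 * e.2 ^ 2) = 1 := by
    rw [eq_inv_of_mul_eq_one_left h1 |> fun e' => (show t ^ (e.1 ^ 2 - 2 * e.2 ^ 2) =
      (t ^ e.1) ^ e.1 * (((t ^ 2) ^ e.2) ^ e.2)⁻¹ by group), eq_inv_of_mul_eq_one_left h1,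
      eq_inv_of_mul_eq_one_right h2]
    group
  obtain ⟨k, hk⟩ := he
  have h4 : (t : K) ^ 8 = 1 := by
    have := congrArg (· ^ k) h3
    simp only [← zpow_mul, ← hk, one_zpow] at this
    simpa using congrArg Units.val this
  refine Units.ext (sub_eq_zero.1 (pow_eq_zero_iff (n := 8) (by decide) |>.1 ?_))
  simp only [Units.val_one]
  linear_combination h4 + (1 - 4 * t + 14 * t ^ 2 - 28 * t ^ 3 + 35 * t ^ 4 - 28 * t ^ 5 +
    14 * t ^ 6 - 4 * t ^ 7 : K) * h.two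

theorem ch (a b c d : ℤ) (t : Kˣ) :
    Ch (CF4 K) (KF4 K (2 ^ m)) fun r => pw ψ (exF a b c d r) t := by
  convert ch_tor adjoint_F4 (h.H_inf.ge.trans inf_le_right) (c := ![pw ψ (a, b) t, pw ψ (c, d) t,
    pw ψ (2 * d, c) t, pw ψ (2 * b, a) t]) ?_ using 2 with r
  · simp only [pw, exF, chr, Fin.prod_univ_four, pair_F4, MonoidHom.mul_apply, zpowGroupHom_apply,
      MonoidHom.comp_apply, Matrix.cons_val, mul_zpow, ← zpow_mul, zpow_add]
    simp only [mul_assoc, mul_comm, mul_left_comm]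
    rfl
  · have h1 : ∀ a b, (pw ψ (2 * b, a) t : K) = ψ (pw ψ (a, b) t) := fun a b => by
      have := congrArg Units.val (h.ψψ t)
      simp_all [pw, zpow_mul, mul_comm]
      exact Or.inl (by group)
    simp [h.mem_TFix, h1, h.φψ]

theorem σ_x (r : Fin 48) (t : K) : S.σ ((CF4 K).x r t) =
    (CF4 K).x (symF4.ρ r) ((if RF4.ln r = 1 then ψ else φ) t) := by
  induction r using induction_root (R := RF4) generalizing t with
  | simple i =>
    rw [S.σ_pos, symF4.ρ_simple, h.θ_eq]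
    have : ∀ i, RF4.ln (RF4.simple i) = ![1, 1, 2, 2] i := by decide +kernel
    fin_cases i <;> simp [this]
  | step i r ih => rw [S.σ_x_step_two h.two ih, ln_sref]

variable (hm : 1 ≤ m) {E : Type*} [Group E] [Finite E] {f : E →* chevF4.group K}
  (hc : f.ker ≤ center E) (hf : f.range = KF4 K (2 ^ m))
include hm

theorem lt_card : 7 < Nat.card K :=
  h.card ▸ (by decide : 7 < 2 ^ 3).trans_le (Nat.pow_le_pow_right two_pos (by omega))

theorem exists_ch (a b c d : ℤ) : ∃ χ, Ch (CF4 K) (KF4 K (2 ^ m)) χ ∧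
    (∀ r, (exF a b c d r).1 ^ 2 - 2 * (exF a b c d r).2 ^ 2 ∣ 8 → χ r ≠ 1) ∧
    ∀ r, exF a b c d r = 0 → χ r = 1 := by
  have := h.finite
  obtain ⟨t, ht⟩ := exists_pow_ne_one_of_isCyclic (G := Kˣ) one_ne_zero
    (by rw [Nat.card_units]; have := h.lt_card hm; omega)
  exact ⟨_, h.ch a b c d t, fun r e e' => ht ((pow_one t).trans (h.pw_inj e (e'.trans
    (map_one _).symm))), fun r e => by simp [e, pw]⟩

include hc hf

theorem cm_top [CharP K 2] : Cm (CF4 K) f {44, 47} AF := fun x y hx hy => by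
  have := h.finite
  obtain ⟨χ, h1, h2, h3⟩ := h.exists_ch hm 1 0 1 0
  have h4 : ∀ {r s : Fin 48}, s = r ∨ s.val ≠ chevF4.neg r ∧ redT 2 (chevF4.commTerms r s) = [] →
      ∀ t u, Commute ((CF4 K).x r t) ((CF4 K).x s u) := fun H =>
    checkedF4.commute_of_redT 2 (C := (CF4 K).toPreSys) (checkedF4.gsys_strongComm K) H
  have h5 : Cm (CF4 K) f AF {40, 46} := by
    refine cm_of_sep faithful_F4 hc hf (fun r hr s hs k => between_AF hr.1.le hr.2.le hs)
      (by simp only [mem_AF, pos_F4]; decide) (eq_bot_iff.2 (commutator_closure_le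
      (fun _ _ => (normalizer_eq_top ⊥).ge trivial) (fun _ _ => (normalizer_eq_top ⊥).ge trivial) ?_))
      h1 (fun r hr => h2 r (by revert r; simp only [mem_AF]; decide +kernel))
      fun r hr => h3 r (by revert r; decide +kernel)
    rintro _ ⟨r, hr, t, rfl⟩ _ ⟨s, hs, u, rfl⟩
    exact (h4 (by revert r s; simp only [mem_AF]; decide +kernel) t u).commutator_eq
  obtain ⟨s, u, e⟩ : ∃ s u, f x = (CF4 K).x 44 s * (CF4 K).x 47 u :=
    XS_induction (p := fun g => ∃ s u, g = (CF4 K).x 44 s * (CF4 K).x 47 u) hx ⟨0, 0, by simp⟩ (by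
      rintro _ - _ (rfl | rfl) t ⟨s, u, rfl⟩
      · exact ⟨s + t, u, by
          rw [(CF4 K).x_add, mul_assoc, mul_assoc, (h4 (by decide +kernel) t u).eq]⟩
      · exact ⟨s, u + t, by rw [(CF4 K).x_add, mul_assoc]⟩)
  have h6 : symF4.ρ 44 = 47 ∧ symF4.ρ 47 = 44 ∧ symF4.ρ 40 = 46 ∧ symF4.ρ 46 = 40 ∧ RF4.ln 44 = 1 ∧
    RF4.ln 47 = 2 ∧ RF4.ln 40 = 1 ∧ RF4.ln 46 = 2 := by decide +kernel
  have h7 := mem_Fix.1 (h.isTw.le_fix (hf.le ⟨x, rfl⟩))
  simp only [e, map_mul, h.σ_x, h6, if_true, OfNat.ofNat_ne_one, if_false] at h7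
  have h8 : φ u = s ∧ ψ s = u := by
    simpa using word_inj (faithful_F4 (K := K)) (f := htL _) (l := [44, 47]) (by decide)
      (by decide +kernel) (t := [φ u, ψ s]) (t' := [s, u]) rfl rfl (by
        simpa [(h4 (r := 44) (s := 47) (by decide +kernel) _ (ψ s)).eq] using h7)
  obtain ⟨a, ha⟩ := hf.ge (h.isTw.pos 0 (h.mem_X0.2 ⟨1, rfl⟩))
  obtain ⟨b, hb⟩ := hf.ge (h.isTw.U_le (x := (CF4 K).x 40 s * (CF4 K).x 46 u) ⟨mul_mem
    ((CF4 K).x_mem_U (by decide +kernel) _) ((CF4 K).x_mem_U (by decide +kernel) _), mem_Fix.2 (by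
      simp [h.σ_x, h6, h8, (h4 (r := 40) (s := 46) (by decide +kernel) s u).eq])⟩)
  have h9 : ∀ y, f y ∈ (CF4 K).XS AF → Commute y b := fun y hy => h5 y b hy (hb ▸ mul_mem
    ((CF4 K).x_mem (by simp) _) ((CF4 K).x_mem (by simp) _))
  have h10 : ∀ r ∈ ({33, 24} : Set (Fin 48)), ∀ t, (CF4 K).x r t ∈ normalizer ((CF4 K).XS AF : Set _) :=
    fun r hr => (CF4 K).x_mem_normalizer (by revert r; simp only [mem_AF]; decide +kernel)
      fun s hs k => between_AF (by revert r; decide +kernel) (by revert r; decide +kernel) hs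
  have h11 := (h9 (a⁻¹ * y * a⁻¹⁻¹) (by
    simpa using (mem_normalizer_iff.1 (inv_mem (ha ▸ mul_mem (h10 33 (by simp) _)
      (h10 24 (by simp) _))) _).1 hy)).conj a
  have h12 := wd_eq_of_eqWp checkedF4 (F := K) (p := 2) h.two
    (w := [(33, [(1, 0, 0)]), (24, [(1, 0, 0)]), (40, [(1, 1, 0)]), (46, [(1, 0, 1)])])
    (w' := [(44, [(1, 1, 0)]), (47, [(1, 0, 1)]), (40, [(1, 1, 0)]), (46, [(1, 0, 1)]),
      (33, [(1, 0, 0)]), (24, [(1, 0, 0)])]) (by decide +kernel) s u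
  rw [← commutatorElement_eq_one_iff_commute, comm_congr hc (x' := a * b * a⁻¹ * b⁻¹) ?_ rfl]
  · exact (Commute.mul_left (by simpa [mul_assoc] using h11.symm) (h9 y hy).symm.inv_left).commutator_eq
  · rw [map_mul, map_mul, map_mul, map_inv, map_inv, eq_mul_inv_iff_mul_eq, eq_mul_inv_iff_mul_eq]
    simpa [evW, evP, e, ha, hb, x_F4, mul_assoc] using h12.symm

theorem triv_J [CharP K 2] {w : Perm (Fin 48)} (hw : w ∈ symF4.W1) {r s : Fin 48}
    (hs : RF4.IsPos (w s)) (H : rkF (w s) < rkF (w r)) (hr' : r ∈ posJ RF4 (symF4.J 1))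
    (hs' : s ∈ posJ RF4 (symF4.J 1)) : Triv (CF4 K) rkF f (w r) (w s) := by
  have h1 : ∀ r ∈ [27, 25, 28, 30], RF4.IsPos (w r) := fun r hr =>
    Sym.pos_of_not_desc (Sym.isAut_of_mem hw) (fun d => d.neg hw hs' hs)
      ((posJ_F4 r).1 hr)
  have h2 : w 25 = symF4.ρ (w 27) ∧ w 30 = symF4.ρ (w 28) := ⟨hw.2 27, hw.2 28⟩
  have h3 : rkF (w 27) < rkF (w 28) := rkF_lt _ _ (h1 _ (by simp))
    (h2.1 ▸ (Sym.isAut_of_mem hw).cr_iff.2 (by decide +kernel))
  have h4 := h2.1 ▸ rkF_ρ _ (h1 27 (by simp))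
  have h5 := h2.2 ▸ rkF_ρ _ (h1 28 (by simp))
  have h6 : Triv (CF4 K) rkF f (w 28) (w 27) := by
    obtain ⟨_, hn, k1⟩ := h.isTw.exists_nw hw
    obtain ⟨n, rfl⟩ := hf.ge hn
    obtain ⟨c, k2⟩ := k1.exists_acts
    have k3 : ∀ t u, ∃ x, f x = (CF4 K).x (w 27) (c 27 * φ t) * ((CF4 K).x (w 25) (c 25 * t) *
        ((CF4 K).x (w 28) (c 28 * (φ t * t + u)) * (CF4 K).x (w 30) (c 30 * ψ u))) := fun t u => by
      obtain ⟨x, hx⟩ := hf.ge (h.isTw.pos 1 (h.mem_X1.2 ⟨t, u, rfl⟩))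
      exact ⟨n * x * n⁻¹, by simp [hx, ← k2.conj, mul_assoc]⟩
    have k4 : ∀ r ∈ [27, 25, 28, 30], w r ∈ TS RF4 rkF (rkF (w 27)) := by
      simp only [List.forall_mem_cons, TS, Set.mem_ofPred_eq] at h1 ⊢
      simp [h1, h4, h5, h3.le]
    have k5 : ∀ r ∈ [28, 30], w r ∈ TS RF4 rkF (rkF (w 28)) := by
      simp only [List.forall_mem_cons, TS, Set.mem_ofPred_eq] at h1 ⊢
      simp [h1, h5]
    refine rk_F4.triv_of_cm (A := {r | w⁻¹ r ∈ [28, 30]}) (B := {r | w⁻¹ r ∈ [27, 25, 28, 30]})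
      (fun r hr => by simpa using k5 _ hr) (fun r hr => by simpa using k4 _ hr)
      (((h.cm_top hm hc hf).comp h.isTw hf (A := {r | r ∈ [28, 30]})
        (B := {r | r ∈ [27, 25, 28, 30]}) (mul_mem (Sym.s_mem 0) (mul_mem (Sym.s_mem 1) (Sym.s_mem 0)))
        ?_ ?_).comp h.isTw hf (inv_mem hw) (fun _ h => h) fun _ h => h) (fun x _ => ?_) fun x _ => ?_
    · simp only [Set.mem_insert_iff, Set.mem_singleton_iff, Fin.ext_iff, Perm.mul_apply, s_F4]
      decide +kernel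
    · simp only [mem_AF, List.mem_cons, Fin.ext_iff, Perm.mul_apply, s_F4]
      decide +kernel
    · obtain ⟨y, hy⟩ := k3 0 ((c 28 : K)⁻¹ * lc (CF4 K) rkF (w 28) (f x))
      simp only [map_zero, mul_zero, x_zero, one_mul, zero_add] at hy
      refine ⟨y, hy ▸ mul_mem ((CF4 K).x_mem (by simp) _) ((CF4 K).x_mem (by simp) _), ?_⟩
      rw [hy, rk_F4.lc_mul (h1 _ (by simp)) ((CF4 K).x_mem (k5 _ (by simp)) _) ((CF4 K).x_mem
        (k5 _ (by simp)) _), rk_F4.lc_x (h1 _ (by simp)) (k5 _ (by simp)),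
        rk_F4.lc_x (h1 _ (by simp)) (k5 _ (by simp))]
      simp
    · obtain ⟨y, hy⟩ := k3 (ψ ((c 27 : K)⁻¹ * lc (CF4 K) rkF (w 27) (f x))) 0
      have k6 := fun r hr => (CF4 K).x_mem (k4 r hr)
      refine ⟨y, hy ▸ mul_mem ((CF4 K).x_mem (by simp) _) (mul_mem ((CF4 K).x_mem (by simp) _)
        (mul_mem ((CF4 K).x_mem (by simp) _) ((CF4 K).x_mem (by simp) _))), ?_⟩
      simp only [List.forall_mem_cons] at h1 k4 k6
      simp [hy, rk_F4.lc_mul h1.1, rk_F4.lc_x h1.1, k4, k6, mul_mem, h.φψ]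
  have h7 := rk_F4.triv_ρ hf h.isTw rkF_ρ (h1 27 (by simp)) h6
  have h8 := fun s (e : Triv (CF4 K) rkF f (w 28) s) =>
    (rk_F4.triv_ρ hf h.isTw rkF_ρ (h1 28 (by simp)) e.symm).symm
  simp only [← posJ_F4, List.mem_cons, List.not_mem_nil, or_false] at hr' hs'
  rcases hr' with rfl | rfl | rfl | rfl <;> rcases hs' with rfl | rfl | rfl | rfl <;>
    first | omega | simp only [h2, h6, h7, h8]

theorem coprime_two [CharP K 2] (hs : f.ker ≤ commutator E) : (Nat.card f.ker).Coprime 2 := by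
  have := h.finite
  refine coprime_ker h.isTw (sysG_grp _ _) hc hf hs fun z hz hz' => not_mem_commutator rk_F4 hc
    (hf.le.trans h.isTw.le_fix) rkF_ρ rkF_orb (rk_F4.triv_all hf h.isTw rkF_ρ (fun k s hs r hr => ?_)
      (fun w hw k r s hr hs H hr' hs' => ?_) fun k s hs => Or.inl (scal_of_surj (h.lt_card hm)
        fun t => ?_)) hz hz'
  · obtain ⟨χ, h1, h2, h3⟩ := h.exists_ch hm (![1, 2] k) (![0, -1] k) (![2, 1] k) 0
    refine Or.inl ⟨χ, h1, h2 r ?_, h3 s ?_⟩ <;> clear h1 h2 h3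
    · change ¬ ∀ i, orbF4 i ≠ k → RF4.α r i = 0 at hr
      clear hs
      revert k r
      decide +kernel
    · clear hr
      revert k s
      simp only [posJ_F4']
      decide +kernel
  · fin_cases k
    · obtain e | e : w r = w s ∨ w r = symF4.ρ (w s) := by
        generalize w r = a, w s = b at hr' hs'
        revert a b
        simp only [posJ_F4']
        decide +kernel
      · simp [w.injective e] at H
      · simp [w.injective (e.trans (hw.2 s).symm), rkF_ρ s hs] at H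
    · simpa using h.triv_J hm hc hf (inv_mem hw) (by simpa) (by simpa) hr' hs'
  · obtain ⟨u, rfl⟩ := Finite.surjective_of_injective (h.pw_inj (e := exF 1 0 1 0 s) (by
      revert k s
      simp only [posJ_F4']
      decide +kernel)) t
    exact ⟨_, h.ch 1 0 1 0 u, rfl⟩

end IsF4

end Cfsg.Lib.Twisted
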