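import Cfsg.Agent.Lib.Twisted.Classes
import Cfsg.Agent.Lib.Chev.CertG2
import Cfsg.Prelude.Def_LieTwisted

/-!
The twisted groups of type ²G₂.
-/

namespace Cfsg.Lib.Twisted

open Cfsg.Lie Cfsg.Lib.Chev Cfsg.Lib.Chev.RootSys Cfsg.Lib.BN Equiv Twist

/-- The root system of type G₂. -/
noncomputable def RG2 : RootSys (Fin 2) (Fin 12) := checkedG2.R

/-- The symmetry of the diagram of type G₂. -/
def πG2 : Perm (Fin 2) := ⟨![1, 0], ![1, 0], by decide, by decide⟩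

/-- The diagram symmetry of type G₂. -/
noncomputable def symG2 : Sym RG2 (Fin 1) :=
  symOf checkedG2 πG2 0x9080b0a0607040501000302 0x9080b0a0607040501000302 (fun _ => 0)
    (by decide +kernel) (by decide +kernel) (by decide +kernel) (fun _ => rfl)
    (fun k => ⟨(0 : Fin 2), Subsingleton.elim _ _⟩)
    (by change ∀ i j : Fin 2, _ → i = j ∨ πG2 i = j ∨ πG2 (πG2 i) = j; decide)

theorem symG2_π : symG2.π = πG2 := rfl

theorem symG2_J (k : Fin 1) : symG2.J k = Set.univ :=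
  Set.eq_univ_of_forall fun _ => Subsingleton.elim _ _

theorem RG2_A : RG2.A = ![![2, -3], ![-1, 2]] := by
  change (fun i j : Fin 2 => AN chevG2 i j) = _
  decide +kernel

/-- The data for computing in the Weyl group of ²G₂. -/
noncomputable def keysG2 : Keys symG2 where
  A := [[2, -3], [-1, 2]]
  ws := fun _ => [0, 1, 0, 1, 0, 1]
  rep := fun _ => 0
  hA := by rw [RG2_A]; decide
  hws _ _ _ := Subsingleton.elim _ _
  hneg := by decide
  hrep _ := Subsingleton.elim _ _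

theorem weyl_G2 : Nonempty (symG2.W1 ≃* Multiplicative (ZMod 2)) := by
  have := Fintype.ofFinite symG2.W1
  have h := keysG2.sum_eq (ks := [0]) (by decide) (by decide) (q := 1) (e := fun _ => 0)
    (f := fun _ => 1) (fun _ _ _ => rfl) rfl (fuel := 3) (h := [2]) (by decide +kernel)
  exact ⟨mulEquivOfPrimeCardEq (p := 2) (by simpa [ev] using h) (by simp)⟩

theorem w0_G2 (r : Fin 12) : wJ RG2 Set.univ r = RG2.neg r := by
  rw [wJ_eq_of_key keysG2.hA (J := Set.univ) (l := [0, 1, 0, 1, 0, 1]) (fun _ _ => trivial)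
    (fun i _ => by revert i; decide +kernel)]
  refine Fin.ext ((wp_val checkedG2 _ _).trans ?_)
  revert r
  decide +kernel

theorem ker_G2 {M : Type*} [AddCommGroup M] (c : Fin 2 → M) (h : ∀ j, ∑ i, RG2.A i j • c i = 0) :
    c = 0 := by
  obtain ⟨a, b, rfl⟩ : ∃ a b, c = ![a, b] := ⟨c 0, c 1, by funext i; fin_cases i <;> rfl⟩
  simp [RG2_A, Fin.forall_fin_succ, Fin.sum_univ_succ] at h ⊢
  obtain ⟨h0, h1⟩ := h
  refine ⟨?_, ?_⟩
  · linear_combination (norm := module) (2 : ℤ) • h0 + h1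
  · linear_combination (norm := module) (3 : ℤ) • h0 + (2 : ℤ) • h1

theorem isPos_G2 (r : Fin 12) : r ∈ [7, 6, 8, 9, 10, 11] ↔ RG2.IsPos r := by
  change _ ↔ (∀ i : Fin 2, 0 ≤ aN chevG2 certG2 r i)
  revert r
  decide +kernel

theorem simple_G2 (i : Fin 2) : RG2.simple i = ![7, 6] i := by
  revert i
  decide +kernel

theorem neg_G2 (r : Fin 12) : RG2.neg r = r.rev := by
  revert r
  decide +kernel

theorem sref_G2 (i : Fin 2) (r : Fin 12) : RG2.sref i r =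
    ![![0, 5, 3, 2, 7, 1, 10, 4, 9, 8, 6, 11], ![1, 0, 2, 4, 3, 6, 5, 8, 7, 9, 11, 10]] i r := by
  refine Fin.ext ((checkedG2.sref_val _ _).trans ?_)
  revert i r
  decide +kernel

theorem pair_G2 (i : Fin 2) (r : Fin 12) : RG2.pair (RG2.simple i) r =
    ![![0, -3, -1, 1, -2, 3, -3, 2, -1, 1, 3, 0], ![-1, 1, 0, -1, 1, -2, 2, -1, 1, 0, -1, 1]] i r := by
  refine (checkedG2.cartan_eq i r).symm.trans ?_
  revert i r
  decide +kernel

/-- The Chevalley system of type G₂. -/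
noncomputable def CG2 (K : Type*) [Field K] : ChevSys RG2 K (chevG2.group K) := sysG checkedG2 K

/-- The twisted group inside the Chevalley group. -/
def KG2 (K : Type*) [Field K] (e : ℕ) : Subgroup (chevG2.group K) := gen checkedG2 (g2Words K e)

variable {K : Type*} [Field K]

theorem faithful_G2 : (CG2 K).Faithful := sysG_faithful checkedG2 K

theorem adjoint_G2 : (CG2 K).Adjoint := sysG_adjoint checkedG2 K

theorem x_G2 (r : Fin 12) (t : K) : (CG2 K).x r t = xN checkedG2 r.val t :=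
  (xN_val checkedG2 r t).symm

theorem η_G2 (i : Fin 2) (r : Fin 12) : ((CG2 K).η i r : K) =
    (![![1, -1, -1, 1, -1, 1, 1, -1, 1, -1, -1, 1], ![-1, 1, 1, -1, 1, -1, -1, 1, -1, 1, 1, -1]] i r :
      ℤ) := by
  refine (coe_η checkedG2 K i r).trans (congrArg _ ?_)
  revert i r
  decide +kernel

/-- A product of positive root elements. -/
noncomputable def pU (a b c d e f : K) : chevG2.group K := (CG2 K).x 7 a * ((CG2 K).x 6 b *
  ((CG2 K).x 8 c * ((CG2 K).x 9 d * ((CG2 K).x 10 e * (CG2 K).x 11 f))))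

/-- A product of negative root elements. -/
noncomputable def pV (a b c d e f : K) : chevG2.group K := (CG2 K).x 4 (-a) * ((CG2 K).x 5 (-b) *
  ((CG2 K).x 3 (-c) * ((CG2 K).x 2 (-d) * ((CG2 K).x 1 (-e) * (CG2 K).x 0 (-f)))))

theorem pU_inj {a b c d e f a' b' c' d' e' f' : K} (h : pU a b c d e f = pU a' b' c' d' e' f') :
    a = a' ∧ b = b' ∧ c = c' ∧ d = d' ∧ e = e' ∧ f = f' := by
  simpa using word_inj (faithful_G2 (K := K)) (f := htL _) (l := [7, 6, 8, 9, 10, 11]) (by decide)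
    (fun r hr => ((isPos_G2 r).1 hr).ht_pos) (t := [a, b, c, d, e, f])
    (t' := [a', b', c', d', e', f']) rfl rfl (by simpa [pU] using h)

theorem pU_mem (a b c d e f : K) : pU a b c d e f ∈ (CG2 K).U := by
  refine Subgroup.mul_mem _ ?_ (Subgroup.mul_mem _ ?_ (Subgroup.mul_mem _ ?_
    (Subgroup.mul_mem _ ?_ (Subgroup.mul_mem _ ?_ ?_)))) <;>
    exact (CG2 K).x_mem_U ((isPos_G2 _).1 (by decide)) _

theorem pV_mem (a b c d e f : K) : pV a b c d e f ∈ (CG2 K).V := by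
  refine Subgroup.mul_mem _ ?_ (Subgroup.mul_mem _ ?_ (Subgroup.mul_mem _ ?_
    (Subgroup.mul_mem _ ?_ (Subgroup.mul_mem _ ?_ ?_)))) <;>
    exact (CG2 K).x_mem_V ((isPos_G2 _).not.1 (by decide)) _

theorem exists_pU {g : chevG2.group K} (hg : g ∈ (CG2 K).U) : ∃ a b c d e f, g = pU a b c d e f := by
  obtain ⟨t, rfl⟩ := (CG2 K).exists_prodL isClosed_pos (f := htL _) (fun _ h => IsPos.ht_pos h)
    (by decide) isPos_G2 hg
  exact ⟨t 7, t 6, t 8, t 9, t 10, t 11, by simp [pU]⟩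

/-- The general element of the twisted unipotent group. -/
noncomputable def uG2 (φ : K →+* K) (t u v : K) : chevG2.group K :=
  pU (φ t) t (φ t * t + φ u) (φ t ^ 2 * t + φ v) u v

/-- The general element of the opposite twisted unipotent group. -/
noncomputable def vG2 (φ : K →+* K) (t u v : K) : chevG2.group K :=
  pV (φ t) t (φ t * t + φ u) (φ t ^ 2 * t + φ v) u v

theorem uG2_inj {φ : K →+* K} {t u v t' u' v' : K} (h : uG2 φ t u v = uG2 φ t' u' v') :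
    t = t' ∧ u = u' ∧ v = v' := ⟨(pU_inj h).2.1, (pU_inj h).2.2.2.2⟩

/-- The word for `uG2` with integer parameters. -/
def uP (a b c : ℤ) : List (ℕ × Poly) := [(7, [(a, 0, 0)]), (6, [(a, 0, 0)]),
  (8, [(a * a + b, 0, 0)]), (9, [(a ^ 2 * a + c, 0, 0)]), (10, [(b, 0, 0)]), (11, [(c, 0, 0)])]

/-- The word for `vG2` with integer parameters. -/
def vP (a b c : ℤ) : List (ℕ × Poly) := [(4, [(-a, 0, 0)]), (5, [(-a, 0, 0)]),
  (3, [(-(a * a + b), 0, 0)]), (2, [(-(a ^ 2 * a + c), 0, 0)]), (1, [(-b, 0, 0)]),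
  (0, [(-c, 0, 0)])]

theorem wd_uP (φ : K →+* K) (a b c : ℤ) (t u : K) :
    wd checkedG2 (evW t u (uP a b c)) = uG2 φ a b c := by
  simp [evW, evP, uP, uG2, pU, x_G2]

theorem wd_vP (φ : K →+* K) (a b c : ℤ) (t u : K) :
    wd checkedG2 (evW t u (vP a b c)) = vG2 φ a b c := by
  simp [evW, evP, vP, vG2, pV, x_G2]

theorem comm_G2 (h3 : (3 : K) = 0) {r s : Fin 12} (h : chevG2.commTerms r s = [] ∨
    ∃ k, chevG2.commTerms r s = [(k, 3, 1, 1)] ∨ chevG2.commTerms r s = [(k, -3, 1, 1)])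
    (h1 : s ≠ r) (h2 : s ≠ r.rev) (t u : K) :
    (CG2 K).x s u * (CG2 K).x r t = (CG2 K).x r t * (CG2 K).x s u := by
  have h4 : (s : ℕ) ≠ chevG2.neg r := fun e => h2 (neg_G2 r ▸ Fin.ext e)
  obtain h | ⟨k, h | h⟩ := h <;>
    simpa [x_G2, h3] using xN_comm checkedG2 ⟨r.2, s.2, Fin.val_ne_of_ne h1, h4, h⟩ t u

/-- The hypotheses on a twist of type G₂. -/
structure IsG2 (m : ℕ) (S : Twist (CG2 K) symG2) (φ ψ : K →+* K) : Prop where
  finite : Finite K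
  card : Nat.card K = 3 ^ (2 * m + 1)
  three : (3 : K) = 0
  φ_eq : ∀ t, φ t = t ^ 3 ^ m
  ψ_eq : ∀ t, ψ t = φ t ^ 3
  θ_eq : S.θ = ![ψ, φ]

namespace IsG2

variable {m : ℕ} {S : Twist (CG2 K) symG2} {φ ψ : K →+* K} (h : IsG2 m S φ ψ)
include h

theorem ψφ (t : K) : ψ (φ t) = t := by
  have := h.finite
  have := Fintype.ofFinite K
  rw [h.ψ_eq, h.φ_eq, h.φ_eq, ← pow_mul, ← pow_mul, ← pow_succ, ← pow_add, ← add_assoc, ← two_mul,
    pow_pow_eq_self (Nat.card_eq_fintype_card.symm.trans h.card)]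

theorem φψ (t : K) : φ (ψ t) = t := by
  rw [h.ψ_eq, map_pow, ← h.ψ_eq, h.ψφ]

theorem σ_x (r : Fin 12) (t : K) : S.σ ((CG2 K).x r t) =
    (CG2 K).x (symG2.ρ r) (![φ, φ, ψ, ψ, ψ, φ, φ, ψ, ψ, ψ, φ, φ] r t) := by
  have key : ∀ (i : Fin 2) (r s : Fin 12) (f : K →+* K),
      (∀ t, S.σ ((CG2 K).x r t) = (CG2 K).x (symG2.ρ r) (f t)) → RG2.sref i r = s →
      ((CG2 K).η i r : K) = (1 : ℤ) → ((CG2 K).η (πG2 i) (symG2.ρ r) : K) = (1 : ℤ) →
      ∀ t, S.σ ((CG2 K).x s t) = (CG2 K).x (symG2.ρ s) (f t) := fun i r s f h1 h2 h3 h4 t =>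
    h2 ▸ S.σ_x_step h1 h3 h4 t
  have h7 : ∀ t, S.σ ((CG2 K).x 7 t) = (CG2 K).x (symG2.ρ 7) (ψ t) := fun t => by
    have := S.σ_pos 0 t
    rwa [simple_G2, simple_G2, h.θ_eq] at this
  have h6 : ∀ t, S.σ ((CG2 K).x 6 t) = (CG2 K).x (symG2.ρ 6) (φ t) := fun t => by
    have := S.σ_pos 1 t
    rwa [simple_G2, simple_G2, h.θ_eq] at this
  have h4 : ∀ t, S.σ ((CG2 K).x 4 t) = (CG2 K).x (symG2.ρ 4) (ψ t) := fun t => by
    have := S.σ_neg 0 t
    rwa [simple_G2, simple_G2, neg_G2, neg_G2, h.θ_eq] at this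
  have h5 : ∀ t, S.σ ((CG2 K).x 5 t) = (CG2 K).x (symG2.ρ 5) (φ t) := fun t => by
    have := S.σ_neg 1 t
    rwa [simple_G2, simple_G2, neg_G2, neg_G2, h.θ_eq] at this
  have h8 := key 1 7 8 ψ h7 (sref_G2 _ _) (η_G2 _ _) (η_G2 _ _)
  have h10 := key 0 6 10 φ h6 (sref_G2 _ _) (η_G2 _ _) (η_G2 _ _)
  have h3 := key 1 4 3 ψ h4 (sref_G2 _ _) (η_G2 _ _) (η_G2 _ _)
  have h1 := key 0 5 1 φ h5 (sref_G2 _ _) (η_G2 _ _) (η_G2 _ _)
  fin_cases r
  exacts [key 1 1 0 φ h1 (sref_G2 _ _) (η_G2 _ _) (η_G2 _ _) t, h1 t,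
    key 0 3 2 ψ h3 (sref_G2 _ _) (η_G2 _ _) (η_G2 _ _) t, h3 t, h4 t, h5 t, h6 t, h7 t, h8 t,
    key 0 8 9 ψ h8 (sref_G2 _ _) (η_G2 _ _) (η_G2 _ _) t, h10 t,
    key 1 10 11 φ h10 (sref_G2 _ _) (η_G2 _ _) (η_G2 _ _) t]

theorem classG_pos : ClassG S.σ φ ψ ((CG2 K).x 7) ((CG2 K).x 6) ((CG2 K).x 8) ((CG2 K).x 9)
    ((CG2 K).x 10) ((CG2 K).x 11) := by
  refine ⟨(CG2 K).x_add _, (CG2 K).x_add _, (CG2 K).x_add _, (CG2 K).x_add _, fun t u => ?_,
    ?_, ?_, ?_, ?_, ?_, ?_, h.σ_x 7, h.σ_x 6, h.σ_x 8, h.σ_x 9, h.σ_x 10, h.σ_x 11⟩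
  · simpa [x_G2, Odd.neg_pow (by decide : Odd 3)] using xN_comm checkedG2 (r := 7) (s := 6)
      (L := [(8, -1, 1, 1), (9, 1, 2, 1), (10, 1, 3, 1), (11, 1, 3, 2)]) (by decide +kernel) t u
  · exact comm_G2 h.three (Or.inr ⟨11, by decide +kernel⟩) (by decide) (by decide)
  all_goals exact comm_G2 h.three (Or.inl (by decide +kernel)) (by decide) (by decide)

theorem classG_neg : ClassG S.σ φ ψ (fun t => (CG2 K).x 4 (-t)) (fun t => (CG2 K).x 5 (-t))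
    (fun t => (CG2 K).x 3 (-t)) (fun t => (CG2 K).x 2 (-t)) (fun t => (CG2 K).x 1 (-t))
    (fun t => (CG2 K).x 0 (-t)) := by
  have h1 : ∀ r (t u : K), (CG2 K).x r (-(t + u)) = (CG2 K).x r (-t) * (CG2 K).x r (-u) :=
    fun r t u => by rw [neg_add, (CG2 K).x_add]
  refine ⟨h1 _, h1 _, h1 _, h1 _, fun t u => ?_, fun t u => ?_, fun t u => ?_, fun t u => ?_,
    fun t u => ?_, fun t u => ?_, fun t u => ?_, fun t => map_neg ψ t ▸ h.σ_x 4 _,
    fun t => map_neg φ t ▸ h.σ_x 5 _, fun t => map_neg ψ t ▸ h.σ_x 3 _,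
    fun t => map_neg ψ t ▸ h.σ_x 2 _, fun t => map_neg φ t ▸ h.σ_x 1 _,
    fun t => map_neg φ t ▸ h.σ_x 0 _⟩
  · simpa [x_G2] using xN_comm checkedG2 (r := 4) (s := 5)
      (L := [(3, 1, 1, 1), (2, 1, 2, 1), (1, -1, 3, 1), (0, 1, 3, 2)]) (by decide +kernel) (-t) (-u)
  · exact comm_G2 h.three (Or.inr ⟨0, by decide +kernel⟩) (by decide) (by decide) _ _
  all_goals exact comm_G2 h.three (Or.inl (by decide +kernel)) (by decide) (by decide) _ _

theorem mem_U_Fix {g : chevG2.group K} : g ∈ (CG2 K).U ⊓ S.Fix ↔ ∃ t u v, g = uG2 φ t u v := by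
  constructor
  · rintro ⟨h1, h2⟩
    obtain ⟨a, b, c, d, e, f, rfl⟩ := exists_pU h1
    obtain ⟨h3, h4, h5, h6, -⟩ := pU_inj ((h.classG_pos.σ_prod _ _ _ _ _ _).symm.trans h2)
    exact ⟨b, e, f, by rw [uG2, ← h5, ← h6, h4, h3]⟩
  · rintro ⟨t, u, v, rfl⟩
    exact ⟨pU_mem _ _ _ _ _ _, h.classG_pos.fixed h.ψφ h.ψ_eq t u v⟩

omit h in
theorem X_eq (k : Fin 1) : S.X k = (CG2 K).U ⊓ S.Fix := by rw [X, symG2_J, XS_posJ_univ]

omit h in
theorem Y_eq (k : Fin 1) : S.Y k = (CG2 K).V ⊓ S.Fix := by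
  rw [Y, symG2_J, negJ]
  simp only [InJ, Set.mem_univ, not_true, false_imp_iff, implies_true, and_true]
  rfl

theorem vG2_mem (t u v : K) : vG2 φ t u v ∈ (CG2 K).V ⊓ S.Fix :=
  ⟨pV_mem _ _ _ _ _ _, h.classG_neg.fixed h.ψφ h.ψ_eq t u v⟩

theorem wd_U (t u v : K) : wd checkedG2 (reeWordU (3 ^ m) t u v) = uG2 φ t u v := by
  simp [reeWordU, uG2, pU, x_G2, h.φ_eq, pow_succ, mul_comm 2, pow_mul]
  rfl

theorem wd_V (t u v : K) : wd checkedG2 (reeWordV (3 ^ m) t u v) = vG2 φ t u v := by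
  simp [reeWordV, ChevalleyDatum.negWord, reeWordU, vG2, pV, x_G2, h.φ_eq, pow_succ, mul_comm 2,
    pow_mul]
  rfl

theorem u_mem (t u v : K) : uG2 φ t u v ∈ KG2 K (3 ^ m) :=
  h.wd_U t u v ▸ wd_mem_gen checkedG2 ⟨t, u, v, Or.inl rfl⟩

theorem v_mem (t u v : K) : vG2 φ t u v ∈ KG2 K (3 ^ m) :=
  h.wd_V t u v ▸ wd_mem_gen checkedG2 ⟨t, u, v, Or.inr rfl⟩

theorem gen : KG2 K (3 ^ m) ≤ ⨆ k, S.X k ⊔ S.Y k := by
  refine ((gen_le checkedG2).2 ?_).trans (le_iSup (fun k => S.X k ⊔ S.Y k) 0)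
  rintro _ ⟨t, u, v, rfl | rfl⟩
  · exact Subgroup.mem_sup_left ((X_eq 0).ge (h.mem_U_Fix.2 ⟨t, u, v, h.wd_U t u v⟩))
  · exact Subgroup.mem_sup_right ((Y_eq 0).ge (h.wd_V t u v ▸ h.vG2_mem t u v))

theorem isTw : S.IsTw (KG2 K (3 ^ m)) where
  faithful := faithful_G2
  le_fix := h.gen.trans (iSup_le fun _ => sup_le inf_le_right inf_le_right)
  le_grp := le_top.trans (sysG_grp checkedG2 K).ge
  pos k g hg := by
    obtain ⟨t, u, v, rfl⟩ := h.mem_U_Fix.1 ((X_eq k).le hg)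
    exact h.u_mem t u v
  neg k := by
    refine ⟨_, h.v_mem 0 0 1, fun e => ?_, (Y_eq (S := S) k ▸ h.vG2_mem 0 0 1).1⟩
    simpa using word_inj (faithful_G2 (K := K)) (f := -htL _) (l := [2, 0]) (by decide)
      (fun r hr => neg_ht_pos ((isPos_G2 r).not.1 (by revert r; decide))) (t := [-1, -1])
      (t' := [0, 0]) rfl rfl (by simpa [vG2, pV] using e)

theorem mem_U_iff {g : chevG2.group K} :
    g ∈ (CG2 K).U ⊓ KG2 K (3 ^ m) ↔ ∃ t u v, g = uG2 φ t u v := h.isTw.U_inf ▸ h.mem_U_Fix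

theorem cardU : Nat.card ↥((CG2 K).U ⊓ KG2 K (3 ^ m)) = (3 ^ (2 * m + 1)) ^ 3 :=
  (card_eq_of_param (f := fun p : K × K × K => uG2 φ p.1 p.2.1 p.2.2)
    (fun _ _ e => Prod.ext (uG2_inj e).1 (Prod.ext (uG2_inj e).2.1 (uG2_inj e).2.2))
    fun g => h.mem_U_iff.trans (by simp)).trans (by simp [h.card, pow_succ, mul_assoc])

theorem cardX (k : Fin 1) : Nat.card (S.X k) = (3 ^ (2 * m + 1)) ^ 3 := by
  rw [X_eq, ← h.isTw.U_inf, h.cardU]

theorem mem_TFix {c : Fin 2 → Kˣ} : c ∈ S.TFix ↔ (c 1 : K) = ψ (c 0) ∧ (c 0 : K) = φ (c 1) := by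
  simp [Twist.mem_TFix, h.θ_eq, Fin.forall_fin_succ, symG2_π, πG2]

omit h in
theorem tor_inj {c : Fin 2 → Kˣ} (hc : tor adjoint_G2 c = 1) : c = 1 :=
  ker_G2 (M := Additive Kˣ) c ((tor_eq_one_iff _ faithful_G2).1 hc)

end IsG2

/-- The torus element with parameter `s`. -/
noncomputable def hG2 (φ : K →+* K) : Kˣ →* chevG2.group K :=
  (tor adjoint_G2).comp (MonoidHom.mk' (fun s => ![Units.map (φ : K →* K) s, s]) fun a b => by
    funext i
    fin_cases i <;> simp)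

theorem hG2_apply (φ : K →+* K) (s : Kˣ) :
    hG2 φ s = tor adjoint_G2 ![Units.map (φ : K →* K) s, s] := rfl

theorem hG2_inj (φ : K →+* K) : Function.Injective (hG2 φ) :=
  (injective_iff_map_eq_one _).2 fun _ e => congrFun (IsG2.tor_inj e) 1

theorem hG2_neg_one (φ : K →+* K) (h3 : (3 : K) = 0) : hG2 φ (-1) = uG2 φ 1 (-1) 0 *
    vG2 φ (-1) (-1) 0 * uG2 φ 1 (-1) 0 * (uG2 φ 0 1 0 * vG2 φ 0 1 0 * uG2 φ 0 1 0) := by
  have h1 := wd_eq_of_eqWp checkedG2 (p := 3) h3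
    (w := [(7, [(-1, 0, 0)]), (4, [(1, 0, 0)]), (7, [(-1, 0, 0)]), (7, [(-1, 0, 0)]),
      (4, [(1, 0, 0)]), (7, [(-1, 0, 0)]), (6, [(-1, 0, 0)]), (5, [(1, 0, 0)]), (6, [(-1, 0, 0)]),
      (6, [(-1, 0, 0)]), (5, [(1, 0, 0)]), (6, [(-1, 0, 0)])])
    (w' := uP 1 (-1) 0 ++ vP (-1) (-1) 0 ++ uP 1 (-1) 0 ++ (uP 0 1 0 ++ vP 0 1 0 ++ uP 0 1 0))
    (by decide +kernel) 0 0
  simp only [evW_append, wd_append, wd_uP φ, wd_vP φ] at h1
  have h2 : (![Units.map (φ : K →* K) (-1), -1] : Fin 2 → Kˣ) =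
      Pi.mulSingle 0 (-1) * Pi.mulSingle 1 (-1) := by
    funext i
    fin_cases i <;> simp [Units.ext_iff]
  rw [hG2_apply, h2, map_mul, tor_mulSingle, tor_mulSingle]
  simpa [evW, evP, PreSys.h, PreSys.n, simple_G2, neg_G2, x_G2, mul_assoc] using h1

namespace IsG2

variable {m : ℕ} {S : Twist (CG2 K) symG2} {φ ψ : K →+* K} (h : IsG2 m S φ ψ)
include h

theorem H_inf_Fix : (CG2 K).H ⊓ S.Fix = (hG2 φ).range := by
  have h1 : (CG2 K).H ⊓ S.Fix = S.TFix.map (tor adjoint_G2) := by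
    refine Twist.H_inf_Fix _ (n := 2) (m := 1) (by decide) (fun c => funext fun i => Units.ext ?_)
      fun c hc => (pow_one c).trans (tor_inj hc)
    have h2 : ∀ i, πG2 (πG2 i) = i := by decide
    rw [← h2 i]
    refine (S.coe_σT_apply _ _).trans ((congrArg _ (S.coe_σT_apply _ _)).trans ?_)
    rw [h.θ_eq]
    fin_cases i
    exacts [h.φψ _, h.ψφ _]
  rw [h1]
  ext g
  constructor
  · rintro ⟨c, hc, rfl⟩
    refine ⟨c 1, congrArg (tor adjoint_G2) (funext fun i => ?_)⟩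
    fin_cases i
    exacts [Units.ext (h.mem_TFix.1 hc).2.symm, rfl]
  · rintro ⟨s, rfl⟩
    exact ⟨_, h.mem_TFix.2 ⟨(h.ψφ _).symm, rfl⟩, rfl⟩

theorem not_isSquare_neg_one : ¬ IsSquare (-1 : K) := by
  have := h.finite
  have := Fintype.ofFinite K
  rw [FiniteField.isSquare_neg_one_iff, ← Nat.card_eq_fintype_card, h.card, not_not, pow_succ,
    pow_mul, Nat.mul_mod, Nat.pow_mod]
  simp

theorem isSquare_or (s : K) : IsSquare s ∨ IsSquare (-s) := by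
  classical
  have := h.finite
  have := Fintype.ofFinite K
  by_contra hc
  rw [not_or, ← quadraticChar_neg_one_iff_not_isSquare, ← quadraticChar_neg_one_iff_not_isSquare,
    ← neg_one_mul s, map_mul, quadraticChar_neg_one_iff_not_isSquare.2 h.not_isSquare_neg_one] at hc
  have := hc.2
  rw [hc.1] at this
  omega

theorem h_mem (s : Kˣ) : hG2 φ s ∈ KG2 K (3 ^ m) := by
  have h1 : ∀ r : Kˣ, hG2 φ (r * r) ∈ KG2 K (3 ^ m) := fun r => map_mul (hG2 φ) r r ▸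
    mul_self_mem adjoint_G2 h.isTw h.gen w0_G2 (h.H_inf_Fix.ge ⟨r, rfl⟩)
  have h2 : ∀ s : Kˣ, IsSquare (s : K) → hG2 φ s ∈ KG2 K (3 ^ m) := fun s ⟨r, hr⟩ => by
    have : r ≠ 0 := fun e => s.ne_zero (by rw [hr, e, mul_zero])
    exact (show s = Units.mk0 r this * Units.mk0 r this from Units.ext hr) ▸ h1 _
  refine (h.isSquare_or s).elim (h2 s) fun h3 => ?_
  rw [← neg_neg s, ← neg_one_mul, map_mul, hG2_neg_one φ h.three]
  exact Subgroup.mul_mem _ (Subgroup.mul_mem _ (Subgroup.mul_mem _ (Subgroup.mul_mem _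
    (h.u_mem _ _ _) (h.v_mem _ _ _)) (h.u_mem _ _ _)) (Subgroup.mul_mem _ (Subgroup.mul_mem _
    (h.u_mem _ _ _) (h.v_mem _ _ _)) (h.u_mem _ _ _))) (h2 _ h3)

theorem H_inf : (CG2 K).H ⊓ KG2 K (3 ^ m) = (hG2 φ).range := by
  rw [H_inf_eq h.isTw (h.H_inf_Fix.le.trans ?_), h.H_inf_Fix]
  rintro _ ⟨s, rfl⟩
  exact h.h_mem s

theorem eq_Fix : KG2 K (3 ^ m) = S.Fix := by
  rw [h.isTw.eq_of_H_le (h.H_inf_Fix.le.trans (h.H_inf.ge.trans inf_le_right)),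
    show (CG2 K).grp = ⊤ from sysG_grp checkedG2 K, top_inf_eq]

theorem cardH : Nat.card ↥((CG2 K).H ⊓ KG2 K (3 ^ m)) = 3 ^ (2 * m + 1) - 1 := by
  have := h.finite
  rw [h.H_inf, ← Nat.card_congr (MonoidHom.ofInjective (hG2_inj φ)).toEquiv, Nat.card_units, h.card]

theorem cardK : Nat.card (KG2 K (3 ^ m)) =
    (3 ^ (2 * m + 1)) ^ 3 * (3 ^ (2 * m + 1) - 1) * ((3 ^ (2 * m + 1)) ^ 3 + 1) := by
  have := h.finite
  rw [h.isTw.card_K keysG2 (e := fun _ => 3) h.cardX (ks := [0]) (by decide) (by decide)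
    (fuel := 3) (h := [1, 0, 0, 1]) (by decide +kernel), h.cardU, h.cardH]
  congr 1
  simp only [ev]
  ring

theorem perfect (hm : 1 ≤ m) : commutator (KG2 K (3 ^ m)) = ⊤ := by
  have := h.finite
  obtain ⟨u, hu⟩ := exists_sq_ne_one (K := K) (by
    rw [h.card]
    exact (by decide : 3 < 3 ^ 3).trans_le (Nat.pow_le_pow_right three_pos (by omega)))
  obtain ⟨v, hv⟩ : ∃ v : Kˣ, v = Units.map (φ : K →* K) u := ⟨_, rfl⟩
  have h1 : ∀ a b : ℕ, u ^ a = v ^ b → v ^ (3 * a) = u ^ b := fun a b e => Units.ext (by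
    simpa [hv, h.ψφ, ← h.ψ_eq, pow_mul] using congrArg (fun x : Kˣ => ψ x) e)
  have h2 : u ≠ 1 := fun e => hu (by rw [e, one_pow])
  have h3 : v ≠ u := fun e => hu (by
    have := h1 1 1 (by rw [e])
    rw [e, pow_one] at this
    exact mul_eq_right.1 ((pow_succ u 2).symm.trans this))
  have h4 : v ≠ 1 := fun e => h2 (by simpa [e] using (h1 0 1 (by simp [e])).symm)
  have h5 : v ^ 2 ≠ u := fun e => h4 (by
    have := h1 1 2 (by rw [e, pow_one])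
    rw [← e, ← pow_mul] at this
    exact mul_eq_right.1 ((pow_succ' v 3).symm.trans this.symm))
  have h6 : v ^ 3 ≠ u ^ 2 := fun e => h2 (by
    have := h1 2 3 e.symm
    rw [pow_mul, e, ← pow_mul] at this
    exact mul_eq_right.1 ((pow_succ' u 3).symm.trans this))
  have h7 : v ^ 3 ≠ u := fun e => hu (by
    have := h1 1 3 (by rw [e, pow_one])
    rw [mul_one, e] at this
    exact mul_eq_right.1 ((pow_succ u 2).symm.trans this.symm))
  refine h.isTw.commutator_eq_top h.gen fun k => h.isTw.X_le_commutator (h.h_mem u)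
    (acts_tor adjoint_G2 _) fun r hr => ?_
  have h8 := (isPos_G2 r).2 hr.1
  clear hr
  revert r
  simpa [chr, pair_G2, ← hv, mul_inv_eq_one, inv_mul_eq_one] using ⟨h5, h6, h3, h4, h7, h2⟩

theorem core : (((CG2 K).B ⊓ KG2 K (3 ^ m)).subgroupOf (KG2 K (3 ^ m))).normalCore = ⊥ := by
  refine h.isTw.normalCore_eq_bot adjoint_G2 fun i => ⟨_, by decide, fun r => (isPos_G2 r).1, ?_,
    fun r => if r = 10 ∨ r = 11 then 0 else 1, ?_, by simpa [uG2, pU] using h.u_mem 1 0 0⟩ <;>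
    fin_cases i <;> simp [simple_G2]

theorem simple (hm : 1 ≤ m) :
    IsSimpleGroup (KG2 K (3 ^ m)) ∧ ¬ IsMulCommutative (KG2 K (3 ^ m)) :=
  ⟨h.isTw.isSimpleGroup adjoint_G2 (h.isTw.irreducible_of_path keysG2 (l := [0]) (by decide)
    (by simp)) (h.perfect hm) h.core, h.isTw.not_isMulCommutative⟩

end IsG2

end Cfsg.Lib.Twisted
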